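import Mathlib
import Cfsg.Prelude.Def_ChevStructure
import Cfsg.Agent.Lib.helper8.ChevLvl6
import Cfsg.Agent.Lib.helper8.ChevBN3

set_option autoImplicit false

/-!
Subgroups of `U` generated by the root subgroups of an "ideal" of positive roots: they are
normalized by `U`, commutators with `U` fall into the next ideal, and a fundamental root can be
peeled off.
-/

namespace Cfsg.Agent.Lib.helper7.Wc

open Cfsg.Lie Cfsg.Lie.ChevalleyDatum Cfsg.Agent.Lib.helper8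
open scoped commutatorElement

universe u

section grp

variable {G : Type*} [Group G]

/-- Conjugation by a generated subgroup, from the generators. -/
theorem conj_mem_of_gens (S T : Set G)
    (h : ∀ v ∈ S, ∀ g ∈ T, v * g * v⁻¹ ∈ Subgroup.closure T ∧ v⁻¹ * g * v ∈ Subgroup.closure T) :
    ∀ v ∈ Subgroup.closure S, ∀ g ∈ Subgroup.closure T, v * g * v⁻¹ ∈ Subgroup.closure T := by
  have key : ∀ v ∈ Subgroup.closure S, ∀ g ∈ Subgroup.closure T,
      v * g * v⁻¹ ∈ Subgroup.closure T ∧ v⁻¹ * g * v ∈ Subgroup.closure T := by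
    intro v hv
    induction hv using Subgroup.closure_induction with
    | mem v hv =>
      intro g hg
      induction hg using Subgroup.closure_induction with
      | mem g hg => exact h v hv g hg
      | one => simp [Subgroup.one_mem]
      | mul a b _ _ ha hb =>
        have e1 : v * (a * b) * v⁻¹ = (v * a * v⁻¹) * (v * b * v⁻¹) := by group
        have e2 : v⁻¹ * (a * b) * v = (v⁻¹ * a * v) * (v⁻¹ * b * v) := by group
        rw [e1, e2]
        exact ⟨Subgroup.mul_mem _ ha.1 hb.1, Subgroup.mul_mem _ ha.2 hb.2⟩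
      | inv a _ ha =>
        have e1 : v * a⁻¹ * v⁻¹ = (v * a * v⁻¹)⁻¹ := by group
        have e2 : v⁻¹ * a⁻¹ * v = (v⁻¹ * a * v)⁻¹ := by group
        rw [e1, e2]
        exact ⟨Subgroup.inv_mem _ ha.1, Subgroup.inv_mem _ ha.2⟩
    | one =>
      intro g hg
      simpa using hg
    | mul a b _ _ ha hb =>
      intro g hg
      have e1 : a * b * g * (a * b)⁻¹ = a * (b * g * b⁻¹) * a⁻¹ := by group
      have e2 : (a * b)⁻¹ * g * (a * b) = b⁻¹ * (a⁻¹ * g * a) * b := by group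
      rw [e1, e2]
      exact ⟨(ha _ (hb g hg).1).1, (hb _ (ha g hg).2).2⟩
    | inv a _ ha =>
      intro g hg
      rw [inv_inv]
      exact ⟨(ha g hg).2, (ha g hg).1⟩
  intro v hv g hg
  exact (key v hv g hg).1

/-- Commutators of two generated subgroups, from the generators. -/
theorem comm_mem_of_gens (S T : Set G) (N : Subgroup G)
    (hS : ∀ a ∈ Subgroup.closure S, ∀ n ∈ N, a * n * a⁻¹ ∈ N)
    (hT : ∀ b ∈ Subgroup.closure T, ∀ n ∈ N, b * n * b⁻¹ ∈ N)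
    (h : ∀ s ∈ S, ∀ t ∈ T, ⁅s, t⁆ ∈ N) :
    ∀ a ∈ Subgroup.closure S, ∀ b ∈ Subgroup.closure T, ⁅a, b⁆ ∈ N := by
  have step1 : ∀ t ∈ T, ∀ a ∈ Subgroup.closure S, ⁅a, t⁆ ∈ N := by
    intro t ht a ha
    induction ha using Subgroup.closure_induction with
    | mem a ha => exact h a ha t ht
    | one => simp [commutatorElement_def, Subgroup.one_mem]
    | mul a b ha' _ iha ihb =>
      have e : ⁅a * b, t⁆ = a * ⁅b, t⁆ * a⁻¹ * ⁅a, t⁆ := by
        simp only [commutatorElement_def]; group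
      rw [e]
      exact Subgroup.mul_mem _ (hS a ha' _ ihb) iha
    | inv a ha' iha =>
      have e : ⁅a⁻¹, t⁆ = a⁻¹ * ⁅a, t⁆⁻¹ * a⁻¹⁻¹ := by
        simp only [commutatorElement_def]; group
      rw [e]
      exact hS _ (Subgroup.inv_mem _ ha') _ (Subgroup.inv_mem _ iha)
  intro a ha b hb
  induction hb using Subgroup.closure_induction with
  | mem b hb => exact step1 b hb a ha
  | one => simp [commutatorElement_def, Subgroup.one_mem]
  | mul b c hb' _ ihb ihc =>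
    have e : ⁅a, b * c⁆ = ⁅a, b⁆ * (b * ⁅a, c⁆ * b⁻¹) := by
      simp only [commutatorElement_def]; group
    rw [e]
    exact Subgroup.mul_mem _ ihb (hT b hb' _ ihc)
  | inv b hb' ihb =>
    have e : ⁅a, b⁻¹⁆ = b⁻¹ * ⁅a, b⁆⁻¹ * b⁻¹⁻¹ := by
      simp only [commutatorElement_def]; group
    rw [e]
    exact hT _ (Subgroup.inv_mem _ hb') _ (Subgroup.inv_mem _ ihb)

end grp

variable {F : Type u} [Field F]

/-- The subgroup generated by the positive root elements whose root satisfies `Ψ`. -/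
def RU (D : ChevalleyDatum) (hB : H8Base.{u} D) (F : Type u) [Field F] (Ψ : ℕ → Prop) :
    Subgroup (GL D.Idx F) :=
  Subgroup.closure {g | ∃ (r : ℕ) (t : F), D.IsPosRoot r ∧ Ψ r ∧ g = h8xU D hB r t}

theorem xU_mem_RU (D : ChevalleyDatum) (hB : H8Base.{u} D) (Ψ : ℕ → Prop) (r : ℕ)
    (hr : D.IsPosRoot r) (h : Ψ r) (t : F) : h8xU D hB r t ∈ RU D hB F Ψ :=
  Subgroup.subset_closure ⟨r, t, hr, h, rfl⟩

theorem RU_mono (D : ChevalleyDatum) (hB : H8Base.{u} D) (Ψ Ψ' : ℕ → Prop)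
    (h : ∀ r, D.IsPosRoot r → Ψ r → Ψ' r) : RU D hB F Ψ ≤ RU D hB F Ψ' := by
  apply Subgroup.closure_mono
  rintro g ⟨r, t, hr, hΨ, rfl⟩
  exact ⟨r, t, hr, h r hr hΨ, rfl⟩

theorem RU_le_U (D : ChevalleyDatum) (hB : H8Base.{u} D) (Ψ : ℕ → Prop) :
    RU D hB F Ψ ≤ D.posUnipotent F := by
  unfold RU
  rw [Subgroup.closure_le]
  rintro g ⟨r, t, hr, _, rfl⟩
  exact h8xU_mem_U D hB r hr t

theorem RU_top (D : ChevalleyDatum) (hB : H8Base.{u} D) :
    RU D hB F (fun _ => True) = D.posUnipotent F := by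
  apply le_antisymm (RU_le_U D hB _)
  unfold ChevalleyDatum.posUnipotent
  rw [Subgroup.closure_le]
  rintro g ⟨r, t, hr, hg⟩
  have : g = h8xU D hB r t := Units.ext (by rw [hg, h8xU_val])
  rw [this]
  exact xU_mem_RU D hB _ r hr trivial t

theorem RU_UJ (D : ChevalleyDatum) (hB : H8Base.{u} D) (J : Set ℕ) :
    RU D hB F (fun r => ¬ D.InRootSub J r) = D.unipotentRadical F J := by
  unfold RU ChevalleyDatum.unipotentRadical
  congr 1
  ext g
  constructor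
  · rintro ⟨r, t, hr, hJ, rfl⟩
    exact ⟨r, t, hr, hJ, h8xU_val D hB r t⟩
  · rintro ⟨r, t, hr, hJ, hg⟩
    exact ⟨r, t, hr, hJ, Units.ext (by rw [hg, h8xU_val])⟩

/-- `[Ψ, Φ⁺] ⊆ Ψ'` on the level of roots. -/
def Ideal2 (D : ChevalleyDatum) (Ψ Ψ' : ℕ → Prop) : Prop :=
  ∀ r s, D.IsPosRoot r → Ψ r → D.IsPosRoot s → s ≠ r →
    ∀ c ∈ D.commTerms r s, D.IsPosRoot c.1 ∧ Ψ' c.1

theorem pos_ne_neg (D : ChevalleyDatum) (hB : H8Base.{u} D) (r s : ℕ) (hr : D.IsPosRoot r)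
    (hs : D.IsPosRoot s) : s ≠ D.negIdx.getD r 0 := by
  obtain ⟨_, h2, _⟩ := h8PosOK_spec hB.posOK hr
  obtain ⟨h1, _, _⟩ := h8PosOK_spec hB.posOK hs
  omega

/-- `x_s(u) x_r(t) x_s(u)⁻¹ = x_r(t) W⁻¹`. -/
theorem conj_eq (D : ChevalleyDatum) (hB : H8Base.{u} D) (hC : H8CommAll.{u} D) (r s : ℕ)
    (hr : D.IsPosRoot r) (hs : D.IsPosRoot s) (hsr : s ≠ r) (t u : F) :
    h8xU D hB s u * h8xU D hB r t * (h8xU D hB s u)⁻¹ =
      h8xU D hB r t * (h8wordU D hB (D.commWord F r s t (-u)))⁻¹ := by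
  have hsn := pos_ne_neg D hB r s hr hs
  have hcomm := hC.all r hr.1 s hs.1 hsr hsn F t (-u)
  have hU : h8xU D hB s (-u) * h8xU D hB r t =
      h8xU D hB r t * h8xU D hB s (-u) * h8wordU D hB (D.commWord F r s t (-u)) := by
    apply Units.ext
    simp only [Units.val_mul, h8xU_val, h8wordU_val]
    exact hcomm
  rw [h8xU_inv, eq_mul_inv_iff_mul_eq]
  have ha : h8xU D hB s u * h8xU D hB s (-u) = 1 := by
    rw [h8xU_add D hB s hs.1, add_neg_cancel]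
    exact Units.ext (by rw [h8xU_val, hB.zero]; rfl)
  symm
  calc h8xU D hB r t = (h8xU D hB s u * h8xU D hB s (-u)) * h8xU D hB r t := by
        rw [ha, one_mul]
    _ = h8xU D hB s u * (h8xU D hB s (-u) * h8xU D hB r t) := by rw [mul_assoc]
    _ = h8xU D hB s u * (h8xU D hB r t * h8xU D hB s (-u) *
          h8wordU D hB (D.commWord F r s t (-u))) := by rw [hU]
    _ = _ := by group

/-- The commutator word as a commutator. -/
theorem word_eq_comm (D : ChevalleyDatum) (hB : H8Base.{u} D) (hC : H8CommAll.{u} D) (r s : ℕ)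
    (hr : D.IsPosRoot r) (hs : D.IsPosRoot s) (hsr : s ≠ r) (t u : F) :
    h8wordU D hB (D.commWord F r s t u) =
      ⁅(h8xU D hB s u)⁻¹, (h8xU D hB r t)⁻¹⁆ := by
  have hsn := pos_ne_neg D hB r s hr hs
  have hcomm := hC.all r hr.1 s hs.1 hsr hsn F t u
  have hU : h8xU D hB s u * h8xU D hB r t =
      h8xU D hB r t * h8xU D hB s u * h8wordU D hB (D.commWord F r s t u) := by
    apply Units.ext
    simp only [Units.val_mul, h8xU_val, h8wordU_val]
    exact hcomm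
  have : h8wordU D hB (D.commWord F r s t u) =
      (h8xU D hB r t * h8xU D hB s u)⁻¹ * (h8xU D hB s u * h8xU D hB r t) := by
    rw [hU]; group
  rw [this, commutatorElement_def]
  group

theorem commWord_mem (D : ChevalleyDatum) (hB : H8Base.{u} D) (Ψ Ψ' : ℕ → Prop)
    (hI : Ideal2 D Ψ Ψ') (r s : ℕ) (hr : D.IsPosRoot r) (hΨ : Ψ r) (hs : D.IsPosRoot s)
    (hsr : s ≠ r) (t u : F) : h8wordU D hB (D.commWord F r s t u) ∈ RU D hB F Ψ' := by
  unfold h8wordU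
  apply Subgroup.list_prod_mem
  intro g hg
  rw [List.mem_map] at hg
  obtain ⟨p, hp, rfl⟩ := hg
  unfold ChevalleyDatum.commWord at hp
  rw [List.mem_map] at hp
  obtain ⟨c, hc, rfl⟩ := hp
  obtain ⟨h1, h2⟩ := hI r s hr hΨ hs hsr c hc
  exact xU_mem_RU D hB Ψ' c.1 h1 h2 _

/-- Conjugating a generator by a positive root element. -/
theorem conj_gen_mem (D : ChevalleyDatum) (hB : H8Base.{u} D) (hC : H8CommAll.{u} D)
    (Ψ Ψ' : ℕ → Prop) (hI : Ideal2 D Ψ Ψ') (r s : ℕ) (hr : D.IsPosRoot r) (hΨ : Ψ r)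
    (hs : D.IsPosRoot s) (t u : F) :
    ∃ w ∈ RU D hB F Ψ', h8xU D hB s u * h8xU D hB r t * (h8xU D hB s u)⁻¹ =
      h8xU D hB r t * w := by
  by_cases hsr : s = r
  · subst hsr
    refine ⟨1, Subgroup.one_mem _, ?_⟩
    rw [h8xU_add D hB s hs.1, add_comm, ← h8xU_add D hB s hs.1, mul_inv_cancel_right, mul_one]
  · exact ⟨_, Subgroup.inv_mem _ (commWord_mem D hB Ψ Ψ' hI r s hr hΨ hs hsr t (-u)),
      conj_eq D hB hC r s hr hs hsr t u⟩

/-- `U` normalizes the subgroup of an ideal. -/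
theorem RU_conj (D : ChevalleyDatum) (hB : H8Base.{u} D) (hC : H8CommAll.{u} D)
    (Ψ Ψ' : ℕ → Prop) (hI : Ideal2 D Ψ Ψ') (hsub : ∀ r, D.IsPosRoot r → Ψ' r → Ψ r)
    (v : GL D.Idx F) (hv : v ∈ D.posUnipotent F) (g : GL D.Idx F) (hg : g ∈ RU D hB F Ψ) :
    v * g * v⁻¹ ∈ RU D hB F Ψ := by
  rw [← RU_top D hB] at hv
  refine conj_mem_of_gens _ _ ?_ v hv g hg
  rintro v ⟨s, u, hs, _, rfl⟩ g ⟨r, t, hr, hΨ, rfl⟩
  have hle := RU_mono (F := F) D hB Ψ' Ψ hsub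
  constructor
  · obtain ⟨w, hw, e⟩ := conj_gen_mem D hB hC Ψ Ψ' hI r s hr hΨ hs t u
    rw [e]
    exact Subgroup.mul_mem _ (xU_mem_RU D hB Ψ r hr hΨ t) (hle hw)
  · obtain ⟨w, hw, e⟩ := conj_gen_mem D hB hC Ψ Ψ' hI r s hr hΨ hs t (-u)
    rw [← h8xU_inv, inv_inv] at e
    rw [e]
    exact Subgroup.mul_mem _ (xU_mem_RU D hB Ψ r hr hΨ t) (hle hw)

/-- `[U_Ψ, U] ≤ U_Ψ'`. -/
theorem RU_comm (D : ChevalleyDatum) (hB : H8Base.{u} D) (hC : H8CommAll.{u} D)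
    (Ψ Ψ' : ℕ → Prop) (hI : Ideal2 D Ψ Ψ') (hI' : Ideal2 D Ψ' Ψ')
    (g : GL D.Idx F) (hg : g ∈ RU D hB F Ψ) (v : GL D.Idx F) (hv : v ∈ D.posUnipotent F) :
    ⁅g, v⁆ ∈ RU D hB F Ψ' := by
  rw [← RU_top D hB] at hv
  have hN : ∀ a ∈ D.posUnipotent F, ∀ n ∈ RU D hB F Ψ', a * n * a⁻¹ ∈ RU D hB F Ψ' :=
    fun a ha n hn => RU_conj D hB hC Ψ' Ψ' hI' (fun _ _ h => h) a ha n hn
  refine comm_mem_of_gens _ _ (RU D hB F Ψ') ?_ ?_ ?_ g hg v hv
  · intro a ha n hn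
    exact hN a (RU_le_U D hB Ψ ha) n hn
  · intro b hb n hn
    exact hN b (RU_le_U D hB _ hb) n hn
  · rintro a ⟨r, t, hr, hΨ, rfl⟩ b ⟨s, u, hs, _, rfl⟩
    by_cases hsr : s = r
    · subst hsr
      have : ⁅h8xU D hB s t, h8xU D hB s u⁆ = 1 := by
        rw [commutatorElement_def, h8xU_add D hB s hs.1, add_comm, ← h8xU_add D hB s hs.1]
        group
      rw [this]
      exact Subgroup.one_mem _
    · have e := conj_eq D hB hC r s hr hs hsr (-t) u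
      have e2 : ⁅h8xU D hB r t, h8xU D hB s u⁆ =
          (h8wordU D hB (D.commWord F r s (-t) (-u)))⁻¹ := by
        have e3 : h8xU D hB r t = (h8xU D hB r (-t))⁻¹ := by rw [h8xU_inv, neg_neg]
        rw [commutatorElement_def, e3, inv_inv]
        have : (h8xU D hB r (-t))⁻¹ * h8xU D hB s u * h8xU D hB r (-t) * (h8xU D hB s u)⁻¹ =
            (h8xU D hB r (-t))⁻¹ *
              (h8xU D hB s u * h8xU D hB r (-t) * (h8xU D hB s u)⁻¹) := by group
        rw [this, e]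
        group
      rw [e2]
      exact Subgroup.inv_mem _ (commWord_mem D hB Ψ Ψ' hI r s hr hΨ hs hsr _ _)

/-- Peeling a root off an ideal. -/
theorem peel (D : ChevalleyDatum) (hB : H8Base.{u} D) (hC : H8CommAll.{u} D)
    (Ψ Ψ' : ℕ → Prop) (hI' : Ideal2 D Ψ' Ψ') (ρ : ℕ) (hρ : D.IsPosRoot ρ)
    (hΨ : ∀ r, D.IsPosRoot r → Ψ r → r ≠ ρ → Ψ' r)
    (y : GL D.Idx F) (hy : y ∈ RU D hB F Ψ) :
    ∃ a : F, ∃ k ∈ RU D hB F Ψ', y = h8xU D hB ρ a * k := by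
  have hN : ∀ b : F, ∀ n ∈ RU D hB F Ψ', h8xU D hB ρ b * n * (h8xU D hB ρ b)⁻¹ ∈ RU D hB F Ψ' :=
    fun b n hn => RU_conj D hB hC Ψ' Ψ' hI' (fun _ _ h => h) _ (h8xU_mem_U D hB ρ hρ b) n hn
  induction hy using Subgroup.closure_induction with
  | mem y hy =>
    obtain ⟨r, t, hr, hr2, rfl⟩ := hy
    by_cases hrρ : r = ρ
    · subst hrρ
      exact ⟨t, 1, Subgroup.one_mem _, by rw [mul_one]⟩
    · refine ⟨0, h8xU D hB r t, xU_mem_RU D hB Ψ' r hr (hΨ r hr hr2 hrρ) t, ?_⟩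
      rw [h8xU_zero, one_mul]
  | one => exact ⟨0, 1, Subgroup.one_mem _, by rw [h8xU_zero, one_mul]⟩
  | mul y z _ _ ihy ihz =>
    obtain ⟨a, k, hk, rfl⟩ := ihy
    obtain ⟨b, l, hl, rfl⟩ := ihz
    refine ⟨a + b, (h8xU D hB ρ (-b) * k * (h8xU D hB ρ (-b))⁻¹) * l,
      Subgroup.mul_mem _ (hN _ k hk) hl, ?_⟩
    rw [← h8xU_add D hB ρ hρ.1, ← h8xU_inv (t := b)]
    group
  | inv y _ ihy =>
    obtain ⟨a, k, hk, rfl⟩ := ihy
    refine ⟨-a, h8xU D hB ρ a * k⁻¹ * (h8xU D hB ρ a)⁻¹,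
      hN _ _ (Subgroup.inv_mem _ hk), ?_⟩
    rw [← h8xU_inv]
    group

end Cfsg.Agent.Lib.helper7.Wc
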