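import Mathlib
import Cfsg.Prelude.Def_ChevStructure
import Cfsg.Agent.Lib.helper7.Wc.Ideal

set_option autoImplicit false

/-!
The height filtration of `U_J`: `Fil J h` is generated by the root elements of the positive roots
outside `Φ_J` whose (scaled) height exceeds `h`.
-/

namespace Cfsg.Agent.Lib.helper7.Wc

open Cfsg.Lie Cfsg.Lie.ChevalleyDatum Cfsg.Agent.Lib.helper8
open scoped commutatorElement

universe u

variable {F : Type u} [Field F]

/-- The scaled height of a root, computably. -/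
def lvT (D : ChevalleyDatum) (m : List (List ℤ)) (r : ℕ) : ℤ :=
  ((List.range D.rank).map fun k => h8gk D (m.getD k []) r).sum

theorem levJ_empty (D : ChevalleyDatum) (m : List (List ℤ)) (r : ℕ) :
    h8levJ D m ∅ r = lvT D m r := by
  unfold h8levJ lvT
  simp

/-- The table facts about the heights. -/
structure Ctx (D : ChevalleyDatum) (m : List (List ℤ)) (d : ℤ) : Prop where
  hL : h8lvlChk D m = true
  hsorted : ∀ a < D.nroots, (((D.chain.getD a #[]).toList).map Prod.fst).Pairwise (· < ·)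
  hlt : ∀ a b, a < D.nroots → ∀ q ∈ D.chainEntry a b, q.1 < D.nroots
  hd : 0 < d
  lv_simple : ∀ i < D.rank, lvT D m (D.simple i) = d
  lv_ns : ∀ r, D.IsPosRoot r → (∀ i < D.rank, r ≠ D.simple i) → d < lvT D m r
  simple_pos : ∀ i < D.rank, D.IsPosRoot (D.simple i)

theorem Ctx.lv_ge {D : ChevalleyDatum} {m : List (List ℤ)} {d : ℤ} (C : Ctx D m d) (r : ℕ)
    (hr : D.IsPosRoot r) : d ≤ lvT D m r := by
  by_cases h : ∀ i < D.rank, r ≠ D.simple i
  · exact le_of_lt (C.lv_ns r hr h)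
  · simp only [not_forall] at h
    obtain ⟨i, hi, h⟩ := h
    have : r = D.simple i := by
      by_contra hne
      exact h hne
    rw [this, C.lv_simple i hi]

/-- The levels along the terms of the commutator formula, with the actual exponents. -/
theorem commTerms_lev (D : ChevalleyDatum) (hCA : H8CA D) (m : List (List ℤ)) (J : Set ℕ)
    (hsorted : ∀ a < D.nroots, (((D.chain.getD a #[]).toList).map Prod.fst).Pairwise (· < ·))
    (hlt : ∀ a b, a < D.nroots → ∀ q ∈ D.chainEntry a b, q.1 < D.nroots)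
    (r s : ℕ) (hr : r < D.nroots) (hs : s < D.nroots) (c : ℕ × ℤ × ℕ × ℕ)
    (hc : c ∈ D.commTerms r s) :
    c.1 < D.nroots ∧ 1 ≤ c.2.2.1 ∧ 1 ≤ c.2.2.2 ∧
      h8levJ D m J c.1 =
        (c.2.2.1 : ℤ) * h8levJ D m J r + (c.2.2.2 : ℤ) * h8levJ D m J s := by
  have A : ∀ a b i v, a < D.nroots → 1 ≤ i → D.chainRoot a b i = some v →
      v < D.nroots ∧ h8levJ D m J v = h8levJ D m J b + (i : ℤ) * h8levJ D m J a := by
    intro a b i v ha hi h
    obtain ⟨h1, q, hq, hqv⟩ := h8chainRoot_lev D hCA m J a b i v ha (hsorted a ha) hi h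
    exact ⟨hqv ▸ hlt a b ha q hq, h1⟩
  unfold ChevalleyDatum.commTerms at hc
  rw [List.mem_filterMap] at hc
  obtain ⟨cand, hcand, hmap⟩ := hc
  obtain ⟨k, hk, rfl⟩ : ∃ k, cand.1 = some k ∧ c = (k, cand.2) := by
    cases hk : cand.1 with
    | none => rw [hk] at hmap; cases hmap
    | some k => rw [hk] at hmap; exact ⟨k, rfl, (Option.some.inj hmap).symm⟩
  simp only [List.mem_cons, List.mem_nil_iff, or_false] at hcand
  rcases hcand with rfl | rfl | rfl | rfl | rfl | rfl | rfl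
  · obtain ⟨h1, h2⟩ := A r s 1 k hr le_rfl hk
    exact ⟨h1, le_rfl, le_rfl, by rw [h2]; push_cast; ring⟩
  · obtain ⟨h1, h2⟩ := A r s 2 k hr (by norm_num) hk
    exact ⟨h1, by norm_num, le_rfl, by rw [h2]; push_cast; ring⟩
  · obtain ⟨h1, h2⟩ := A s r 2 k hs (by norm_num) hk
    exact ⟨h1, le_rfl, by norm_num, by rw [h2]; push_cast; ring⟩
  · obtain ⟨h1, h2⟩ := A r s 3 k hr (by norm_num) hk
    exact ⟨h1, by norm_num, le_rfl, by rw [h2]; push_cast; ring⟩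
  · obtain ⟨h1, h2⟩ := A s r 3 k hs (by norm_num) hk
    exact ⟨h1, le_rfl, by norm_num, by rw [h2]; push_cast; ring⟩
  · simp only at hk
    rw [Option.bind_eq_some_iff] at hk
    obtain ⟨k', hk1, hk2⟩ := hk
    obtain ⟨h1, h2⟩ := A r s 3 k' hr (by norm_num) hk1
    obtain ⟨h3, h4⟩ := A k' s 1 k h1 le_rfl hk2
    exact ⟨h3, by norm_num, by norm_num, by rw [h4, h2]; push_cast; ring⟩
  · simp only at hk
    rw [Option.bind_eq_some_iff] at hk
    obtain ⟨k', hk1, hk2⟩ := hk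
    obtain ⟨h1, h2⟩ := A s r 3 k' hs (by norm_num) hk1
    obtain ⟨h3, h4⟩ := A k' r 1 k h1 le_rfl hk2
    exact ⟨h3, by norm_num, by norm_num, by rw [h4, h2]; push_cast; ring⟩

theorem levJ_nonneg (D : ChevalleyDatum) (m : List (List ℤ)) (hL : h8lvlChk D m = true)
    (J : Set ℕ) (r : ℕ) (hr : D.IsPosRoot r) : 0 ≤ h8levJ D m J r := by
  by_cases h : D.InRootSub J r
  · rw [h8levJ_zero D m hL J r h]
  · have := h8levJ_pos D m hL J r hr h
    omega

theorem pos_of_levJ (D : ChevalleyDatum) (hB : H8Base.{u} D) (m : List (List ℤ))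
    (hL : h8lvlChk D m = true) (J : Set ℕ) (r : ℕ) (hr : r < D.nroots)
    (h : 1 ≤ h8levJ D m J r) : D.IsPosRoot r ∧ ¬ D.InRootSub J r := by
  constructor
  · rcases hB.posneg r hr with hp | hn
    · exact hp
    · have := h8levJ_nonpos_of_neg D m hL J r hn
      omega
  · intro h'
    have := h8levJ_zero D m hL J r h'
    omega

/-- The predicate of the filtration. -/
def FilP (D : ChevalleyDatum) (m : List (List ℤ)) (J : Set ℕ) (h : ℤ) (r : ℕ) : Prop :=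
  ¬ D.InRootSub J r ∧ h < lvT D m r

/-- The filtration. -/
def Fil (D : ChevalleyDatum) (hB : H8Base.{u} D) (F : Type u) [Field F] (m : List (List ℤ))
    (J : Set ℕ) (h : ℤ) : Subgroup (GL D.Idx F) :=
  RU D hB F (FilP D m J h)

section ctx

variable {D : ChevalleyDatum} {m : List (List ℤ)} {d : ℤ} (C : Ctx D m d) (hB : H8Base.{u} D)
  (hC : H8CommAll.{u} D)

include C hB

/-- The terms of a commutator of positive roots. -/
theorem commTerms_facts (J : Set ℕ) (r s : ℕ) (hr : D.IsPosRoot r) (hs : D.IsPosRoot s)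
    (c : ℕ × ℤ × ℕ × ℕ) (hc : c ∈ D.commTerms r s) :
    D.IsPosRoot c.1 ∧ (¬ D.InRootSub J r ∨ ¬ D.InRootSub J s → ¬ D.InRootSub J c.1) ∧
      lvT D m c.1 = (c.2.2.1 : ℤ) * lvT D m r + (c.2.2.2 : ℤ) * lvT D m s ∧
      1 ≤ c.2.2.1 ∧ 1 ≤ c.2.2.2 := by
  obtain ⟨h1, h2, h3, h4⟩ := commTerms_lev D hB.ca m ∅ C.hsorted C.hlt r s hr.1 hs.1 c hc
  obtain ⟨_, _, _, h5⟩ := commTerms_lev D hB.ca m J C.hsorted C.hlt r s hr.1 hs.1 c hc
  rw [levJ_empty, levJ_empty, levJ_empty] at h4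
  have hi : (1 : ℤ) ≤ (c.2.2.1 : ℤ) := by exact_mod_cast h2
  have hj : (1 : ℤ) ≤ (c.2.2.2 : ℤ) := by exact_mod_cast h3
  have hlr := C.lv_ge r hr
  have hls := C.lv_ge s hs
  have hd := C.hd
  have hpos : D.IsPosRoot c.1 := by
    have : 1 ≤ h8levJ D m ∅ c.1 := by
      rw [levJ_empty, h4]
      nlinarith
    exact (pos_of_levJ D hB m C.hL ∅ c.1 h1 this).1
  refine ⟨hpos, ?_, h4, h2, h3⟩
  intro hor
  have h0r := levJ_nonneg D m C.hL J r hr
  have h0s := levJ_nonneg D m C.hL J s hs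
  have : 1 ≤ h8levJ D m J c.1 := by
    rw [h5]
    rcases hor with h | h
    · have := h8levJ_pos D m C.hL J r hr h
      nlinarith
    · have := h8levJ_pos D m C.hL J s hs h
      nlinarith
  exact (pos_of_levJ D hB m C.hL J c.1 h1 this).2

/-- Non-fundamental roots. -/
theorem commTerms_ns (r s : ℕ) (hr : D.IsPosRoot r) (hs : D.IsPosRoot s)
    (c : ℕ × ℤ × ℕ × ℕ) (hc : c ∈ D.commTerms r s) : ∀ i < D.rank, c.1 ≠ D.simple i := by
  obtain ⟨_, _, h3, h4, h5⟩ := commTerms_facts C hB ∅ r s hr hs c hc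
  intro i hi e
  rw [e, C.lv_simple i hi] at h3
  have hi : (1 : ℤ) ≤ (c.2.2.1 : ℤ) := by exact_mod_cast h4
  have hj : (1 : ℤ) ≤ (c.2.2.2 : ℤ) := by exact_mod_cast h5
  have hlr := C.lv_ge r hr
  have hls := C.lv_ge s hs
  have hd := C.hd
  nlinarith

theorem filP_ideal (J : Set ℕ) (h : ℤ) : Ideal2 D (FilP D m J h) (FilP D m J (h + 1)) := by
  intro r s hr hΨ hs _ c hc
  obtain ⟨h1, h2, h3, h4, h5⟩ := commTerms_facts C hB J r s hr hs c hc
  refine ⟨h1, h2 (Or.inl hΨ.1), ?_⟩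
  rw [h3]
  have hi : (1 : ℤ) ≤ (c.2.2.1 : ℤ) := by exact_mod_cast h4
  have hj : (1 : ℤ) ≤ (c.2.2.2 : ℤ) := by exact_mod_cast h5
  have hlr := C.lv_ge r hr
  have hls := C.lv_ge s hs
  have hd := C.hd
  have := hΨ.2
  nlinarith

theorem filP_ideal' (J : Set ℕ) (h : ℤ) : Ideal2 D (FilP D m J h) (FilP D m J h) := by
  intro r s hr hΨ hs hsr c hc
  obtain ⟨h1, h2⟩ := filP_ideal C hB J h r s hr hΨ hs hsr c hc
  exact ⟨h1, h2.1, by have := h2.2; omega⟩

theorem fil_anti (J : Set ℕ) (h h' : ℤ) (hh : h ≤ h') : Fil D hB F m J h' ≤ Fil D hB F m J h := by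
  apply RU_mono
  intro r _ hΨ
  exact ⟨hΨ.1, by have := hΨ.2; omega⟩

theorem fil_le_UJ (J : Set ℕ) (h : ℤ) : Fil D hB F m J h ≤ D.unipotentRadical F J := by
  rw [← RU_UJ D hB J]
  apply RU_mono
  intro r _ hΨ
  exact hΨ.1

theorem UJ_le_fil (J : Set ℕ) (h : ℤ) (hh : h < d) : D.unipotentRadical F J ≤ Fil D hB F m J h := by
  rw [← RU_UJ D hB J]
  apply RU_mono
  intro r hr hΨ
  exact ⟨hΨ, by have := C.lv_ge r hr; omega⟩

theorem fil_bot (J : Set ℕ) : ∃ M : ℕ, Fil D hB F m J (M : ℤ) = ⊥ := by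
  refine ⟨(h8bnd D m ∅).toNat, ?_⟩
  rw [eq_bot_iff]
  unfold Fil RU
  rw [Subgroup.closure_le]
  rintro g ⟨r, t, hr, hΨ, rfl⟩
  exfalso
  have h1 := h8levI_le D m ∅ (Sum.inr ⟨r, hr.1⟩)
  have h2 : h8levI D m ∅ (Sum.inr ⟨r, hr.1⟩) = lvT D m r := levJ_empty D m r
  rw [h2] at h1
  have h3 := hΨ.2
  have h4 := abs_le.mp h1
  have h5 : 0 ≤ h8bnd D m ∅ := le_trans (abs_nonneg _) h1
  rw [Int.toNat_of_nonneg h5] at h3
  omega

include hC

theorem fil_conj (J : Set ℕ) (h : ℤ) (v : GL D.Idx F) (hv : v ∈ D.posUnipotent F)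
    (g : GL D.Idx F) (hg : g ∈ Fil D hB F m J h) : v * g * v⁻¹ ∈ Fil D hB F m J h :=
  RU_conj D hB hC _ _ (filP_ideal' C hB J h) (fun _ _ h => h) v hv g hg

theorem fil_comm (J : Set ℕ) (h : ℤ) (g : GL D.Idx F) (hg : g ∈ Fil D hB F m J h)
    (v : GL D.Idx F) (hv : v ∈ D.posUnipotent F) : ⁅g, v⁆ ∈ Fil D hB F m J (h + 1) :=
  RU_comm D hB hC _ _ (filP_ideal C hB J h) (filP_ideal' C hB J (h + 1)) g hg v hv

end ctx

end Cfsg.Agent.Lib.helper7.Wc
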