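import Mathlib
import Cfsg.Prelude.Def_ChevStructure
import Cfsg.Agent.Lib.helper7.Wc.Fil

set_option autoImplicit false

/-!
The generation lemma: a subgroup `Y` of `U`, normalized by `U`, that contains the fundamental root
elements outside `Φ_J` modulo higher terms, contains `U_J` (given the commutator certificates).
-/

namespace Cfsg.Agent.Lib.helper7.Wc

open Cfsg.Lie Cfsg.Lie.ChevalleyDatum Cfsg.Agent.Lib.helper8
open scoped commutatorElement

universe u

variable {F : Type u} [Field F]

/-- The certificate for the root `k`: `x_k(c)` is a product of commutators modulo higher terms. -/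
def Cert (D : ChevalleyDatum) (hB : H8Base.{u} D) (F : Type u) [Field F] (m : List (List ℤ))
    (k : ℕ) : Prop :=
  ∀ J : Set ℕ, ¬ D.InRootSub J k → ∀ c : F, h8xU D hB k c ∈
    ⁅D.unipotentRadical F J, D.posUnipotent F⁆ ⊔ Fil D hB F m J (lvT D m k)

theorem main_lemma {D : ChevalleyDatum} {m : List (List ℤ)} {d : ℤ} (C : Ctx D m d)
    (hB : H8Base.{u} D) (hC : H8CommAll.{u} D) (J : Set ℕ) (Y : Subgroup (GL D.Idx F))
    (hYle : Y ≤ D.posUnipotent F)
    (hYU : ∀ v ∈ D.posUnipotent F, ∀ y ∈ Y, v * y * v⁻¹ ∈ Y)
    (hL1 : ∀ i < D.rank, ¬ D.InRootSub J (D.simple i) → ∀ a : F,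
      ∃ y ∈ Y, ∃ w ∈ Fil D hB F m J d, y = h8xU D hB (D.simple i) a * w)
    (hCert : ∀ k, D.IsPosRoot k → (∀ i < D.rank, k ≠ D.simple i) → Cert D hB F m k) :
    D.unipotentRadical F J ≤ Y := by
  obtain ⟨M, hM⟩ := fil_bot C hB (F := F) J
  have hnorm : ∀ h : ℤ, Y ≤ Subgroup.normalizer (Fil D hB F m J h : Set (GL D.Idx F)) := by
    intro h
    rw [Subgroup.le_normalizer_iff]
    intro y hy k hk
    exact fil_conj C hB hC J h y (hYle hy) k hk
  have key : ∀ h : ℕ, D.unipotentRadical F J ≤ Y ⊔ Fil D hB F m J (h : ℤ) := by
    intro h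
    induction h with
    | zero => exact le_trans (UJ_le_fil C hB J _ (by exact_mod_cast C.hd)) le_sup_right
    | succ h ih =>
      have hcomm : ⁅D.unipotentRadical F J, D.posUnipotent F⁆ ≤
          Y ⊔ Fil D hB F m J ((h : ℤ) + 1) := by
        rw [Subgroup.commutator_le]
        intro x hx v hv
        have hx' := ih hx
        rw [← SetLike.mem_coe, Subgroup.coe_mul_of_left_le_normalizer_right _ _ (hnorm h)] at hx'
        obtain ⟨y, hy, w, hw, rfl⟩ := hx'
        have e : ⁅y * w, v⁆ = y * ⁅w, v⁆ * y⁻¹ * ⁅y, v⁆ := by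
          simp only [commutatorElement_def]; group
        rw [e]
        apply Subgroup.mul_mem
        · apply Subgroup.mem_sup_right
          exact fil_conj C hB hC J _ y (hYle hy) _ (fil_comm C hB hC J h w hw v hv)
        · apply Subgroup.mem_sup_left
          have : ⁅y, v⁆ = y * (v * y⁻¹ * v⁻¹) := by
            simp only [commutatorElement_def]; group
          rw [this]
          exact Subgroup.mul_mem _ hy (hYU v hv _ (Subgroup.inv_mem _ hy))
      have hstep : Fil D hB F m J (h : ℤ) ≤ Y ⊔ Fil D hB F m J ((h : ℤ) + 1) := by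
        unfold Fil RU
        rw [Subgroup.closure_le]
        rintro g ⟨r, t, hr, hΨ, rfl⟩
        by_cases hlv : (h : ℤ) + 1 < lvT D m r
        · exact Subgroup.mem_sup_right (xU_mem_RU D hB _ r hr ⟨hΨ.1, hlv⟩ t)
        · have hlv' : lvT D m r = h + 1 := by
            have := hΨ.2
            omega
          by_cases hs : ∀ i < D.rank, r ≠ D.simple i
          · have := hCert r hr hs J hΨ.1 t
            rw [hlv'] at this
            exact (sup_le hcomm le_sup_right) this
          · simp only [not_forall] at hs
            obtain ⟨i, hi, hri⟩ := hs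
            have hri : r = D.simple i := by
              by_contra hne
              exact hri hne
            subst hri
            obtain ⟨y, hy, w, hw, e⟩ := hL1 i hi hΨ.1 t
            have hd : d = h + 1 := by rw [← hlv', C.lv_simple i hi]
            have e2 : h8xU D hB (D.simple i) t = y * w⁻¹ := by rw [e]; group
            rw [e2]
            apply Subgroup.mul_mem _ (Subgroup.mem_sup_left hy)
            apply Subgroup.mem_sup_right
            rw [← hd]
            exact Subgroup.inv_mem _ hw
      push_cast
      exact le_trans ih (sup_le le_sup_left hstep)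
  have := key M
  rw [hM, sup_bot_eq] at this
  exact this

end Cfsg.Agent.Lib.helper7.Wc
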