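import Mathlib
import Cfsg.Prelude.Def_ChevStructure
import Cfsg.Agent.Lib.helper7.Wc.Main

set_option autoImplicit false

/-!
Commutator certificates: `x_k(c) ∈ [U_J, U] · Fil J (lv k)` for a non-fundamental positive root `k`
outside `Φ_J`, obtained from the commutator formula of a pair `(r, s)`.
-/

namespace Cfsg.Agent.Lib.helper7.Wc

open Cfsg.Lie Cfsg.Lie.ChevalleyDatum Cfsg.Agent.Lib.helper8
open scoped commutatorElement

universe u

variable {F : Type u} [Field F]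

theorem wordU_cons (D : ChevalleyDatum) (hB : H8Base.{u} D) (a : ℕ × F) (l : List (ℕ × F)) :
    h8wordU D hB (a :: l) = h8xU D hB a.1 a.2 * h8wordU D hB l := by
  unfold h8wordU
  rw [List.map_cons, List.prod_cons]

theorem wordU_nil (D : ChevalleyDatum) (hB : H8Base.{u} D) :
    h8wordU D hB ([] : List (ℕ × F)) = 1 := by
  unfold h8wordU
  simp

/-- Root elements of roots with no sum commute. -/
theorem xU_comm_of_nil (D : ChevalleyDatum) (hB : H8Base.{u} D) (hC : H8CommAll.{u} D) (a b : ℕ)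
    (ha : D.IsPosRoot a) (hb : D.IsPosRoot b) (hab : b ≠ a) (hnil : D.commTerms a b = [])
    (t u : F) : h8xU D hB b u * h8xU D hB a t = h8xU D hB a t * h8xU D hB b u := by
  have h := hC.all a ha.1 b hb.1 hab (pos_ne_neg D hB a b ha hb) F t u
  apply Units.ext
  rw [Units.val_mul, Units.val_mul, h8xU_val, h8xU_val, h]
  unfold ChevalleyDatum.commWord
  rw [hnil, List.map_nil, h8wordMat_nil, mul_one]

section ctx

variable {D : ChevalleyDatum} {m : List (List ℤ)} {d : ℤ} (C : Ctx D m d) (hB : H8Base.{u} D)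
  (hC : H8CommAll.{u} D)

include C hB

theorem or_of_term (J : Set ℕ) (r s : ℕ) (hr : D.IsPosRoot r) (hs : D.IsPosRoot s)
    (c : ℕ × ℤ × ℕ × ℕ) (hc : c ∈ D.commTerms r s) (hk : ¬ D.InRootSub J c.1) :
    ¬ D.InRootSub J r ∨ ¬ D.InRootSub J s := by
  by_contra hcon
  rw [not_or, not_not, not_not] at hcon
  obtain ⟨h1, _, _, h4⟩ := commTerms_lev D hB.ca m J C.hsorted C.hlt r s hr.1 hs.1 c hc
  rw [h8levJ_zero D m C.hL J r hcon.1, h8levJ_zero D m C.hL J s hcon.2] at h4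
  obtain ⟨hp, _⟩ := commTerms_facts C hB J r s hr hs c hc
  have := h8levJ_pos D m C.hL J c.1 hp hk
  rw [h4] at this
  omega

theorem rest_mem_fil (J : Set ℕ) (r s : ℕ) (hr : D.IsPosRoot r) (hs : D.IsPosRoot s)
    (hJ : ¬ D.InRootSub J r ∨ ¬ D.InRootSub J s) (h : ℤ) (rest : List (ℕ × ℤ × ℕ × ℕ))
    (hsub : ∀ c ∈ rest, c ∈ D.commTerms r s) (hlev : ∀ c ∈ rest, h < lvT D m c.1) (t u : F) :
    h8wordU D hB (rest.map fun c => (c.1, (c.2.1 : F) * (-t) ^ c.2.2.1 * u ^ c.2.2.2)) ∈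
      Fil D hB F m J h := by
  unfold h8wordU
  apply Subgroup.list_prod_mem
  intro g hg
  rw [List.mem_map] at hg
  obtain ⟨p, hp, rfl⟩ := hg
  rw [List.mem_map] at hp
  obtain ⟨c, hc, rfl⟩ := hp
  obtain ⟨h1, h2, _⟩ := commTerms_facts C hB J r s hr hs c (hsub c hc)
  exact xU_mem_RU D hB _ c.1 h1 ⟨h2 hJ, hlev c hc⟩ _

include hC

theorem word_mem_comm (J : Set ℕ) (r s : ℕ) (hr : D.IsPosRoot r) (hs : D.IsPosRoot s)
    (hsr : s ≠ r) (hJ : ¬ D.InRootSub J r ∨ ¬ D.InRootSub J s) (t u : F) :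
    h8wordU D hB (D.commWord F r s t u) ∈ ⁅D.unipotentRadical F J, D.posUnipotent F⁆ := by
  rw [word_eq_comm D hB hC r s hr hs hsr t u]
  have hxr : (h8xU D hB r t)⁻¹ ∈ D.posUnipotent F := Subgroup.inv_mem _ (h8xU_mem_U D hB r hr t)
  have hxs : (h8xU D hB s u)⁻¹ ∈ D.posUnipotent F := Subgroup.inv_mem _ (h8xU_mem_U D hB s hs u)
  rcases hJ with hJ | hJ
  · rw [Subgroup.commutator_comm]
    apply Subgroup.commutator_mem_commutator hxs
    rw [← RU_UJ D hB J]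
    exact Subgroup.inv_mem _ (xU_mem_RU D hB _ r hr hJ t)
  · refine Subgroup.commutator_mem_commutator ?_ hxr
    rw [← RU_UJ D hB J]
    exact Subgroup.inv_mem _ (xU_mem_RU D hB _ s hs hJ u)

/-- The initial segment of the commutator word lies in `[U_J, U] Fil`. -/
theorem pre_mem (J : Set ℕ) (r s : ℕ) (hr : D.IsPosRoot r) (hs : D.IsPosRoot s) (hsr : s ≠ r)
    (k : ℕ) (hJ : ¬ D.InRootSub J r ∨ ¬ D.InRootSub J s) (pre rest : List (ℕ × ℤ × ℕ × ℕ))
    (hct : D.commTerms r s = pre ++ rest) (hrest : ∀ c ∈ rest, lvT D m k < lvT D m c.1)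
    (t u : F) :
    h8wordU D hB (pre.map fun c => (c.1, (c.2.1 : F) * (-t) ^ c.2.2.1 * u ^ c.2.2.2)) ∈
      ⁅D.unipotentRadical F J, D.posUnipotent F⁆ ⊔ Fil D hB F m J (lvT D m k) := by
  have hW := word_mem_comm C hB hC J r s hr hs hsr hJ t u
  have hR := rest_mem_fil C hB J r s hr hs hJ (lvT D m k) rest
    (fun c hc => by rw [hct]; exact List.mem_append_right _ hc) hrest t u
  have e : h8wordU D hB (D.commWord F r s t u) =
      h8wordU D hB (pre.map fun c => (c.1, (c.2.1 : F) * (-t) ^ c.2.2.1 * u ^ c.2.2.2)) *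
      h8wordU D hB (rest.map fun c => (c.1, (c.2.1 : F) * (-t) ^ c.2.2.1 * u ^ c.2.2.2)) := by
    unfold ChevalleyDatum.commWord
    rw [hct, List.map_append, h8wordU_append]
  have e2 : h8wordU D hB (pre.map fun c => (c.1, (c.2.1 : F) * (-t) ^ c.2.2.1 * u ^ c.2.2.2)) =
      h8wordU D hB (D.commWord F r s t u) *
      (h8wordU D hB (rest.map fun c => (c.1, (c.2.1 : F) * (-t) ^ c.2.2.1 * u ^ c.2.2.2)))⁻¹ := by
    rw [e]; group
  rw [e2]
  exact Subgroup.mul_mem _ (Subgroup.mem_sup_left hW)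
    (Subgroup.mem_sup_right (Subgroup.inv_mem _ hR))

/-- Certificate from a pair with `k = r + s` and unit structure constant. -/
theorem cert1 (k r s : ℕ) (N : ℤ) (rest : List (ℕ × ℤ × ℕ × ℕ)) (hr : D.IsPosRoot r)
    (hs : D.IsPosRoot s) (hsr : s ≠ r) (hct : D.commTerms r s = (k, N, 1, 1) :: rest)
    (hrest : ∀ c ∈ rest, lvT D m k < lvT D m c.1) (hN : (N : F) ≠ 0) : Cert D hB F m k := by
  intro J hJk c
  have hkmem : (k, N, 1, 1) ∈ D.commTerms r s := by rw [hct]; exact List.mem_cons_self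
  have hJ := or_of_term C hB J r s hr hs _ hkmem hJk
  have h1 := pre_mem C hB hC J r s hr hs hsr k hJ [(k, N, 1, 1)] rest hct hrest (-1 : F) (c / N)
  simp only [List.map_cons, List.map_nil] at h1
  rw [wordU_cons, wordU_nil, mul_one] at h1
  have e : (N : F) * (-(-1 : F)) ^ 1 * (c / N) ^ 1 = c := by
    field_simp
  dsimp only at h1
  rw [e] at h1
  exact h1

/-- Certificate from a pair with `k = r + 2s`. -/
theorem cert2 (k1 k r s : ℕ) (C1 C2 : ℤ) (rest : List (ℕ × ℤ × ℕ × ℕ)) (hr : D.IsPosRoot r)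
    (hs : D.IsPosRoot s) (hsr : s ≠ r)
    (hct : D.commTerms r s = (k1, C1, 1, 1) :: (k, C2, 1, 2) :: rest)
    (hrest : ∀ c ∈ rest, lvT D m k < lvT D m c.1) (hC2 : (C2 : F) ≠ 0)
    (lam : F) (h0 : lam ≠ 0) (h1 : lam ≠ 1) : Cert D hB F m k := by
  intro J hJk c
  have hkmem : (k, C2, 1, 2) ∈ D.commTerms r s := by
    rw [hct]; exact List.mem_cons_of_mem _ List.mem_cons_self
  have hJ := or_of_term C hB J r s hr hs _ hkmem hJk
  obtain ⟨hkpos, _⟩ := commTerms_facts C hB J r s hr hs _ hkmem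
  have hE : ∀ t u : F, h8xU D hB k1 ((C1 : F) * (-t) ^ 1 * u ^ 1) *
      h8xU D hB k ((C2 : F) * (-t) ^ 1 * u ^ 2) ∈
      ⁅D.unipotentRadical F J, D.posUnipotent F⁆ ⊔ Fil D hB F m J (lvT D m k) := by
    intro t u
    have h := pre_mem C hB hC J r s hr hs hsr k hJ [(k1, C1, 1, 1), (k, C2, 1, 2)] rest hct hrest
      t u
    simp only [List.map_cons, List.map_nil] at h
    rw [wordU_cons, wordU_cons, wordU_nil, mul_one] at h
    exact h
  have h1' : (1 : F) - lam ≠ 0 := fun h => h1 (by linear_combination -h)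
  set τ : F := c / (C2 * (1 - lam)) with hτ
  have E1 := hE τ 1
  have E2 := hE (τ / lam) lam
  have ea : (C1 : F) * (-(τ / lam)) ^ 1 * lam ^ 1 = (C1 : F) * (-τ) ^ 1 * 1 ^ 1 := by
    field_simp
  rw [ea] at E2
  have h3 := Subgroup.mul_mem _ (Subgroup.inv_mem _ E1) E2
  have e3 : (h8xU D hB k1 ((C1 : F) * (-τ) ^ 1 * 1 ^ 1) *
      h8xU D hB k ((C2 : F) * (-τ) ^ 1 * 1 ^ 2))⁻¹ *
      (h8xU D hB k1 ((C1 : F) * (-τ) ^ 1 * 1 ^ 1) *
      h8xU D hB k ((C2 : F) * (-(τ / lam)) ^ 1 * lam ^ 2)) =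
      (h8xU D hB k ((C2 : F) * (-τ) ^ 1 * 1 ^ 2))⁻¹ *
      h8xU D hB k ((C2 : F) * (-(τ / lam)) ^ 1 * lam ^ 2) := by group
  rw [e3, h8xU_inv, h8xU_add D hB k hkpos.1] at h3
  have e4 : -((C2 : F) * (-τ) ^ 1 * 1 ^ 2) + (C2 : F) * (-(τ / lam)) ^ 1 * lam ^ 2 = c := by
    rw [hτ]
    field_simp
    ring
  rw [e4] at h3
  exact h3

/-- Certificate from a pair with `k = r + 3s`. -/
theorem cert3 (k1 k2 k r s : ℕ) (C1 C2 C3 : ℤ) (rest : List (ℕ × ℤ × ℕ × ℕ))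
    (hr : D.IsPosRoot r) (hs : D.IsPosRoot s) (hsr : s ≠ r)
    (hct : D.commTerms r s = (k1, C1, 1, 1) :: (k2, C2, 1, 2) :: (k, C3, 1, 3) :: rest)
    (hrest : ∀ c ∈ rest, lvT D m k < lvT D m c.1) (hC3 : (C3 : F) ≠ 0)
    (hkk : k ≠ k2) (hnil : D.commTerms k2 k = [])
    (lam mu : F) (h0 : lam ≠ 0) (h1 : lam ≠ 1) (h2 : mu ≠ 0) (h3 : mu ≠ 1) (h4 : lam ≠ mu) :
    Cert D hB F m k := by
  intro J hJk c
  have hkmem : (k, C3, 1, 3) ∈ D.commTerms r s := by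
    rw [hct]; exact List.mem_cons_of_mem _ (List.mem_cons_of_mem _ List.mem_cons_self)
  have hk2mem : (k2, C2, 1, 2) ∈ D.commTerms r s := by
    rw [hct]; exact List.mem_cons_of_mem _ List.mem_cons_self
  have hJ := or_of_term C hB J r s hr hs _ hkmem hJk
  obtain ⟨hkpos, _⟩ := commTerms_facts C hB J r s hr hs _ hkmem
  obtain ⟨hk2pos, _⟩ := commTerms_facts C hB J r s hr hs _ hk2mem
  have hcm := xU_comm_of_nil (F := F) D hB hC k2 k hk2pos hkpos hkk hnil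
  have hE : ∀ t u : F, h8xU D hB k1 ((C1 : F) * (-t) ^ 1 * u ^ 1) *
      (h8xU D hB k2 ((C2 : F) * (-t) ^ 1 * u ^ 2) * h8xU D hB k ((C3 : F) * (-t) ^ 1 * u ^ 3)) ∈
      ⁅D.unipotentRadical F J, D.posUnipotent F⁆ ⊔ Fil D hB F m J (lvT D m k) := by
    intro t u
    have h := pre_mem C hB hC J r s hr hs hsr k hJ
      [(k1, C1, 1, 1), (k2, C2, 1, 2), (k, C3, 1, 3)] rest hct hrest t u
    simp only [List.map_cons, List.map_nil] at h
    rw [wordU_cons, wordU_cons, wordU_cons, wordU_nil, mul_one] at h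
    exact h
  -- second stage
  have hG : ∀ (τ l : F), l ≠ 0 → h8xU D hB k2 ((C2 : F) * τ * (1 - l)) *
      h8xU D hB k ((C3 : F) * τ * (1 - l ^ 2)) ∈
      ⁅D.unipotentRadical F J, D.posUnipotent F⁆ ⊔ Fil D hB F m J (lvT D m k) := by
    intro τ l hl
    have E1 := hE τ 1
    have E2 := hE (τ / l) l
    have ea : (C1 : F) * (-(τ / l)) ^ 1 * l ^ 1 = (C1 : F) * (-τ) ^ 1 * 1 ^ 1 := by
      field_simp
    rw [ea] at E2
    have h5 := Subgroup.mul_mem _ (Subgroup.inv_mem _ E1) E2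
    have e3 : ∀ A B1 K1 B2 K2 : GL D.Idx F, (A * (B1 * K1))⁻¹ * (A * (B2 * K2)) =
        K1⁻¹ * (B1⁻¹ * B2) * K2 := by
      intro A B1 K1 B2 K2; group
    rw [e3, h8xU_inv, h8xU_inv, h8xU_add D hB k2 hk2pos.1, hcm, mul_assoc,
      h8xU_add D hB k hkpos.1] at h5
    have e4 : -((C2 : F) * (-τ) ^ 1 * 1 ^ 2) + (C2 : F) * (-(τ / l)) ^ 1 * l ^ 2 =
        (C2 : F) * τ * (1 - l) := by
      field_simp
      ring
    have e5 : -((C3 : F) * (-τ) ^ 1 * 1 ^ 3) + (C3 : F) * (-(τ / l)) ^ 1 * l ^ 3 =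
        (C3 : F) * τ * (1 - l ^ 2) := by
      field_simp
      ring
    rw [e4, e5] at h5
    exact h5
  have h1' : (1 : F) - lam ≠ 0 := fun h => h1 (by linear_combination -h)
  have h3' : (1 : F) - mu ≠ 0 := fun h => h3 (by linear_combination -h)
  have h4' : mu - lam ≠ 0 := fun h => h4 (by linear_combination -h)
  set τ : F := c / (C3 * (1 - lam) * (mu - lam)) with hτ
  have G1 := hG τ lam h0
  have G2 := hG (τ * (1 - lam) / (1 - mu)) mu h2
  have eb : (C2 : F) * (τ * (1 - lam) / (1 - mu)) * (1 - mu) = (C2 : F) * τ * (1 - lam) := by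
    field_simp
  rw [eb] at G2
  have h6 := Subgroup.mul_mem _ (Subgroup.inv_mem _ G1) G2
  have e6 : ∀ B K1 K2 : GL D.Idx F, (B * K1)⁻¹ * (B * K2) = K1⁻¹ * K2 := by
    intro B K1 K2; group
  rw [e6, h8xU_inv, h8xU_add D hB k hkpos.1] at h6
  have e7 : -((C3 : F) * τ * (1 - lam ^ 2)) +
      (C3 : F) * (τ * (1 - lam) / (1 - mu)) * (1 - mu ^ 2) = c := by
    rw [hτ]
    field_simp
    ring
  rw [e7] at h6
  exact h6

end ctx

end Cfsg.Agent.Lib.helper7.Wc
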