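import Mathlib
import Cfsg.Prelude.Def_ChevStructure
import Cfsg.Agent.Lib.helper7.Wc.Ideal
import Cfsg.Agent.Lib.helper7.SfA
import Cfsg.Agent.Lib.helper8.ChevK
import Cfsg.Agent.Lib.helper8.ChevOrd4
import Cfsg.Agent.Lib.helper8.ChevBr2

set_option autoImplicit false

/-!
Coefficients of elements of `U` at the fundamental roots, their behaviour under the diagonal
subgroup, and the canonical coordinates of an element of `U`.
-/

namespace Cfsg.Agent.Lib.helper7.Wc

open Cfsg.Lie Cfsg.Lie.ChevalleyDatum Cfsg.Agent.Lib.helper8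

universe u

variable {F : Type u} [Field F]

/-- The coefficient of a matrix at the `i`-th fundamental root. -/
def coef (D : ChevalleyDatum) (i : ℕ) (g : GL D.Idx F) : F :=
  if h : i < D.rank ∧ D.neg (D.simple i) < D.nroots then
    (g : Matrix D.Idx D.Idx F) (Sum.inl ⟨i, h.1⟩) (Sum.inr ⟨D.neg (D.simple i), h.2⟩)
  else 0

section

variable (D : ChevalleyDatum) (hB : H8Base.{u} D) (hpi : Sf.piChk D = true)

include hB hpi

omit hB in
theorem coef_cond (i : ℕ) (hi : i < D.rank) : i < D.rank ∧ D.neg (D.simple i) < D.nroots := by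
  obtain ⟨b1, b2, b3, b4, b5⟩ := Sf.piChk_spec D hpi i hi
  exact ⟨hi, by omega⟩

theorem coef_mul (i : ℕ) (g₁ g₂ : GL D.Idx F) (h₁ : g₁ ∈ D.posUnipotent F)
    (h₂ : g₂ ∈ D.posUnipotent F) : coef D i (g₁ * g₂) = coef D i g₁ + coef D i g₂ := by
  unfold coef
  by_cases h : i < D.rank ∧ D.neg (D.simple i) < D.nroots
  · rw [dif_pos h, dif_pos h, dif_pos h]
    exact Sf.coef_mul_U D hB hpi ⟨i, h.1⟩ ⟨_, h.2⟩ rfl g₁ g₂ h₁ h₂
  · rw [dif_neg h, dif_neg h, dif_neg h, add_zero]

omit hB hpi in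
theorem coef_one (i : ℕ) : coef D i (1 : GL D.Idx F) = 0 := by
  unfold coef
  by_cases h : i < D.rank ∧ D.neg (D.simple i) < D.nroots
  · rw [dif_pos h, Units.val_one, Matrix.one_apply_ne (by simp)]
  · rw [dif_neg h]

theorem coef_inv (i : ℕ) (g : GL D.Idx F) (h : g ∈ D.posUnipotent F) :
    coef D i g⁻¹ = - coef D i g := by
  have h1 := coef_mul D hB hpi i g g⁻¹ h (Subgroup.inv_mem _ h)
  rw [mul_inv_cancel, coef_one] at h1
  linear_combination -h1

theorem coef_xU_simple (hsp : ∀ i < D.rank, D.IsPosRoot (D.simple i)) (i : ℕ) (hi : i < D.rank)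
    (t : F) : coef D i (h8xU D hB (D.simple i) t) = t := by
  unfold coef
  rw [dif_pos (coef_cond D hpi i hi)]
  exact Sf.coef_xU_simple D hB hpi hsp ⟨i, hi⟩ ⟨_, (coef_cond D hpi i hi).2⟩ rfl t

theorem coef_RU_ne (i : ℕ) (hi : i < D.rank) (Ψ : ℕ → Prop)
    (hΨ : ∀ r, D.IsPosRoot r → Ψ r → r ≠ D.simple i) (g : GL D.Idx F)
    (hg : g ∈ RU D hB F Ψ) : coef D i g = 0 := by
  unfold coef
  rw [dif_pos (coef_cond D hpi i hi)]
  apply Sf.coef_zero_of_mem D hB hpi ⟨i, hi⟩ ⟨_, (coef_cond D hpi i hi).2⟩ rfl g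
  refine Subgroup.closure_mono ?_ hg
  rintro y ⟨r, c, hr, hr2, rfl⟩
  exact ⟨r, c, hr, hΨ r hr hr2, rfl⟩

/-- The coefficient of a conjugate by `h_r(c)`. -/
theorem coef_conj_h (i : ℕ) (hi : i < D.rank) (r : ℕ) (hr : r < D.nroots) (c : F) (hc : c ≠ 0)
    (g : GL D.Idx F) :
    coef D i (h8hU D hB r c * g * (h8hU D hB r c)⁻¹) =
      c ^ (h8K D r (D.simple i)) * coef D i g := by
  obtain ⟨b1, b2, b3, b4, b5⟩ := Sf.piChk_spec D hpi i hi
  unfold coef
  rw [dif_pos (coef_cond D hpi i hi), dif_pos (coef_cond D hpi i hi)]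
  set g' := h8hU D hB r c * g * (h8hU D hB r c)⁻¹ with hg'
  have e : g' * h8hU D hB r c = h8hU D hB r c * g := by rw [hg']; group
  have e2 : (g' : Matrix D.Idx D.Idx F) * Matrix.diagonal (h8dvec D c (h8K D r)) =
      Matrix.diagonal (h8dvec D c (h8K D r)) * (g : Matrix D.Idx D.Idx F) := by
    rw [← hB.hdiag F r hr c hc, ← h8hU_val D hB, ← Units.val_mul, ← Units.val_mul, e]
  have e3 := congrFun (congrFun e2 (Sum.inl ⟨i, hi⟩))
    (Sum.inr ⟨D.neg (D.simple i), (coef_cond D hpi i hi).2⟩)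
  rw [Matrix.mul_diagonal, Matrix.diagonal_mul] at e3
  have hK : h8K D r (D.neg (D.simple i)) = - h8K D r (D.simple i) :=
    h8K_neg D hB.ca r (D.simple i) b1
  simp only [h8dvec, Sum.elim_inl, Sum.elim_inr, one_mul] at e3
  rw [hK, zpow_neg] at e3
  have hne : c ^ (h8K D r (D.simple i)) ≠ 0 := zpow_ne_zero _ hc
  rw [← e3]
  field_simp

end

/-- Dropping the trivial factors of an ordered product. -/
theorem wordU_filter (D : ChevalleyDatum) (hB : H8Base.{u} D) (P : ℕ → Bool) (t : ℕ → F)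
    (L : List ℕ) :
    h8wordU D hB ((L.filter P).map fun r => (r, t r)) =
      h8wordU D hB (L.map fun r => (r, if P r = true then t r else 0)) := by
  induction L with
  | nil => rfl
  | cons r L ih =>
    by_cases hP : P r = true
    · rw [List.filter_cons_of_pos hP, List.map_cons, List.map_cons, h8wordU_cons, h8wordU_cons,
        ih, if_pos hP]
    · rw [List.filter_cons_of_neg hP, List.map_cons, h8wordU_cons, ih, if_neg hP]
      dsimp only
      rw [h8xU_zero, one_mul]

/-- The canonical coordinates of an ordered product over a subset of the positive roots vanish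
off the subset. -/
theorem coords_of_ordP (D : ChevalleyDatum) (hB : H8Base.{u} D) (hC : H8CommAll.{u} D)
    (hO : H8Ord D) (hO2 : H8Ord2 D) (P : ℕ → Bool) (t' : ℕ → F) (x : GL D.Idx F)
    (hx : x ∈ D.posUnipotent F) (hxe : x = h8wordU D hB (h8ordP D P 0 t'))
    (t : ℕ → F) (ht0 : ∀ r, ¬ D.IsPosRoot r → t r = 0)
    (ht : (x : Matrix D.Idx D.Idx F) = D.wordMat F (D.posRoots.map fun r => (r, t r)))
    (r : ℕ) (hr : P r = false) : t r = 0 := by
  obtain ⟨t1, _, huniq⟩ := (h8ord_main D hB hC hO hO2).1 x hx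
  set t'' : ℕ → F := fun r => if D.IsPosRoot r then (if P r = true then t' r else 0) else 0
    with ht''
  have h1 : t = t1 := huniq t ⟨ht0, ht⟩
  have h2 : t'' = t1 := by
    apply huniq
    refine ⟨fun r hr => by rw [ht'']; simp only [if_neg hr], ?_⟩
    rw [hxe, h8wordU_val]
    unfold h8ordP
    have : h8wordU D hB (List.map (fun r => (r, t' r)) (List.filter P (h8Lk D 0))) =
        h8wordU D hB (D.posRoots.map fun r => (r, t'' r)) := by
      rw [wordU_filter, h8Lk_zero]
      congr 1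
      apply List.map_congr_left
      intro r hr
      have hp : D.IsPosRoot r := by
        unfold ChevalleyDatum.posRoots at hr
        simpa using (List.mem_filter.mp hr).2
      rw [ht'']
      simp only [if_pos hp]
    have h3 := congrArg (fun g : GL D.Idx F => (g : Matrix D.Idx D.Idx F)) this
    simp only [h8wordU_val] at h3
    exact h3
  rw [h1, ← h2, ht'']
  simp only [hr]
  simp

/-- An element of `U` whose canonical coordinates vanish on `Φ_J` lies in `U_J`. -/
theorem mem_UJ_of_coords (D : ChevalleyDatum) (hB : H8Base.{u} D) (J : Set ℕ) (x : GL D.Idx F)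
    (t : ℕ → F)
    (ht : (x : Matrix D.Idx D.Idx F) = D.wordMat F (D.posRoots.map fun r => (r, t r)))
    (h0 : ∀ r, D.IsPosRoot r → D.InRootSub J r → t r = 0) : x ∈ D.unipotentRadical F J := by
  have e : x = h8wordU D hB (D.posRoots.map fun r => (r, t r)) :=
    Units.ext (by rw [ht, h8wordU_val])
  rw [e, ← RU_UJ D hB J]
  unfold h8wordU
  apply Subgroup.list_prod_mem
  intro g hg
  rw [List.mem_map] at hg
  obtain ⟨p, hp, rfl⟩ := hg
  rw [List.mem_map] at hp
  obtain ⟨r, hr, rfl⟩ := hp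
  have hpos : D.IsPosRoot r := by
    unfold ChevalleyDatum.posRoots at hr
    simpa using (List.mem_filter.mp hr).2
  by_cases hJ : D.InRootSub J r
  · dsimp only
    rw [h0 r hpos hJ, h8xU_zero]
    exact Subgroup.one_mem _
  · exact xU_mem_RU D hB _ r hpos hJ _

end Cfsg.Agent.Lib.helper7.Wc
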