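import Mathlib
import Cfsg.Prelude.Def_ChevStructure
import Cfsg.Agent.Lib.helper7.Wc.Fil
import Cfsg.Agent.Lib.helper7.Wc.Coef

set_option autoImplicit false

/-!
Isolating the fundamental root elements in a subgroup of `U_J` normalized by the diagonal
subgroup.
-/

namespace Cfsg.Agent.Lib.helper7.Wc

open Cfsg.Lie Cfsg.Lie.ChevalleyDatum Cfsg.Agent.Lib.helper8
open Polynomial

universe u

/-- Every element of a finite field is a sum of two squares. -/
theorem two_squares (F : Type*) [Field F] [Fintype F] (x : F) : ∃ a b : F, a ^ 2 + b ^ 2 = x := by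
  classical
  by_cases hodd : Fintype.card F % 2 = 1
  · let f : F[X] := X ^ 2
    let g : F[X] := X ^ 2 - C x
    obtain ⟨a, b, hab⟩ := FiniteField.exists_root_sum_quadratic (f := f) (g := g)
      (degree_X_pow 2) (degree_X_pow_sub_C (by decide) _) hodd
    refine ⟨a, b, ?_⟩
    rw [← sub_eq_zero]
    simpa only [f, g, eval_C, eval_X, eval_pow, eval_sub, ← add_sub_assoc] using hab
  · have h2 : ringChar F = 2 := FiniteField.even_card_iff_char_two.mpr (by omega)
    obtain ⟨b, hb⟩ := FiniteField.isSquare_of_char_two h2 x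
    exact ⟨b, 0, by rw [hb]; ring⟩

theorem exists_ne01 (F : Type*) [Field F] [Fintype F] (h : 2 < Fintype.card F) :
    ∃ l : F, l ≠ 0 ∧ l ≠ 1 := by
  classical
  have hc : ({0, 1} : Finset F).card < (Finset.univ : Finset F).card := by
    rw [Finset.card_univ]
    exact lt_of_le_of_lt Finset.card_le_two h
  obtain ⟨e, _, he⟩ := Finset.exists_mem_notMem_of_card_lt_card hc
  simp only [Finset.mem_insert, Finset.mem_singleton, not_or] at he
  exact ⟨e, he.1, he.2⟩

theorem exists_sq_ne1 (F : Type*) [Field F] [Fintype F] (h : 3 < Fintype.card F) :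
    ∃ l : F, l ≠ 0 ∧ l ^ 2 ≠ 1 := by
  classical
  have hc : ({0, 1, -1} : Finset F).card < (Finset.univ : Finset F).card := by
    rw [Finset.card_univ]
    exact lt_of_le_of_lt Finset.card_le_three h
  obtain ⟨e, _, he⟩ := Finset.exists_mem_notMem_of_card_lt_card hc
  simp only [Finset.mem_insert, Finset.mem_singleton, not_or] at he
  refine ⟨e, he.1, fun h2 => ?_⟩
  rw [pow_two, mul_self_eq_one_iff] at h2
  rcases h2 with h2 | h2
  · exact he.2.1 h2
  · exact he.2.2 h2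

variable {F : Type u} [Field F]

section ctx

variable {D : ChevalleyDatum} {m : List (List ℤ)} {d : ℤ} (C : Ctx D m d) (hB : H8Base.{u} D)
  (hC : H8CommAll.{u} D) (hpi : Sf.piChk D = true)

include hB hpi

/-- Killing the coefficients at the fundamental roots in `S`. -/
theorem iso_kill (X : Subgroup (GL D.Idx F)) (hXU : X ≤ D.posUnipotent F)
    (hXH : ∀ r < D.nroots, ∀ c : F, c ≠ 0 → ∀ x ∈ X,
      h8hU D hB r c * x * (h8hU D hB r c)⁻¹ ∈ X)
    (i : ℕ) (hi : i < D.rank)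
    (hiso : ∀ j < D.rank, j ≠ i → ∃ r < D.nroots, h8K D r (D.simple j) = 0 ∧
      ∃ l : F, l ≠ 0 ∧ l ^ (h8K D r (D.simple i)) ≠ 1)
    (x₀ : GL D.Idx F) (hx₀ : x₀ ∈ X) (hne : coef D i x₀ ≠ 0) :
    ∀ S : List ℕ, (∀ j ∈ S, j < D.rank ∧ j ≠ i) →
      ∃ y ∈ X, coef D i y ≠ 0 ∧ ∀ j ∈ S, coef D j y = 0 := by
  intro S
  induction S with
  | nil => intro _; exact ⟨x₀, hx₀, hne, fun j hj => absurd hj List.not_mem_nil⟩
  | cons j S ih =>
    intro hS
    obtain ⟨y, hy, hyi, hyS⟩ := ih (fun k hk => hS k (List.mem_cons_of_mem _ hk))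
    obtain ⟨hj, hji⟩ := hS j List.mem_cons_self
    obtain ⟨r, hr, hK0, l, hl0, hl1⟩ := hiso j hj hji
    have hc := hXH r hr l hl0 y hy
    have hcU := hXU hc
    have hyU := hXU hy
    have hcoef : ∀ k < D.rank, coef D k (h8hU D hB r l * y * (h8hU D hB r l)⁻¹ * y⁻¹) =
        (l ^ (h8K D r (D.simple k)) - 1) * coef D k y := by
      intro k hk
      rw [coef_mul D hB hpi k _ _ hcU (Subgroup.inv_mem _ hyU), coef_inv D hB hpi k y hyU,
        coef_conj_h D hB hpi k hk r hr l hl0 y]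
      ring
    refine ⟨h8hU D hB r l * y * (h8hU D hB r l)⁻¹ * y⁻¹,
      Subgroup.mul_mem _ hc (Subgroup.inv_mem _ hy), ?_, ?_⟩
    · rw [hcoef i hi]
      exact mul_ne_zero (sub_ne_zero.mpr hl1) hyi
    · intro k hk
      rcases List.mem_cons.mp hk with rfl | hk
      · rw [hcoef k hj, hK0, zpow_zero, sub_self, zero_mul]
      · rw [hcoef k (hS k (List.mem_cons_of_mem _ hk)).1, hyS k hk, mul_zero]

/-- The coefficients at the `i`-th fundamental root, the others being zero, fill the field. -/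
theorem iso_span [Fintype F] (X : Subgroup (GL D.Idx F)) (hXU : X ≤ D.posUnipotent F)
    (hXH : ∀ r < D.nroots, ∀ c : F, c ≠ 0 → ∀ x ∈ X,
      h8hU D hB r c * x * (h8hU D hB r c)⁻¹ ∈ X)
    (i : ℕ) (hi : i < D.rank) (hKii : h8K D (D.simple i) (D.simple i) = 2)
    (y₀ : GL D.Idx F) (hy₀ : y₀ ∈ X) (hne : coef D i y₀ ≠ 0)
    (hz : ∀ j < D.rank, j ≠ i → coef D j y₀ = 0) (a : F) :
    ∃ y ∈ X, coef D i y = a ∧ ∀ j < D.rank, j ≠ i → coef D j y = 0 := by
  obtain ⟨b1, _⟩ := Sf.piChk_spec D hpi i hi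
  -- multiplication by squares
  have hsq : ∀ (μ : F), ∃ y ∈ X, coef D i y = μ ^ 2 * coef D i y₀ ∧
      ∀ j < D.rank, j ≠ i → coef D j y = 0 := by
    intro μ
    by_cases hμ : μ = 0
    · refine ⟨1, Subgroup.one_mem _, ?_, fun j _ _ => coef_one D j⟩
      rw [coef_one, hμ]
      ring
    · refine ⟨_, hXH (D.simple i) b1 μ hμ y₀ hy₀, ?_, ?_⟩
      · rw [coef_conj_h D hB hpi i hi _ b1 μ hμ y₀, hKii]
        norm_cast
      · intro j hj hji
        rw [coef_conj_h D hB hpi j hj _ b1 μ hμ y₀, hz j hj hji, mul_zero]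
  obtain ⟨μ, ν, hμν⟩ := two_squares F (a / coef D i y₀)
  obtain ⟨y1, hy1, e1, z1⟩ := hsq μ
  obtain ⟨y2, hy2, e2, z2⟩ := hsq ν
  refine ⟨y1 * y2, Subgroup.mul_mem _ hy1 hy2, ?_, ?_⟩
  · rw [coef_mul D hB hpi i y1 y2 (hXU hy1) (hXU hy2), e1, e2, ← add_mul, hμν]
    field_simp
  · intro j hj hji
    rw [coef_mul D hB hpi j y1 y2 (hXU hy1) (hXU hy2), z1 j hj hji, z2 j hj hji, add_zero]

include C hC

/-- An element of `U_J` whose coefficients at the fundamental roots in `S` vanish avoids the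
corresponding root subgroups. -/
theorem peel_list (J : Set ℕ) (y : GL D.Idx F) (hy : y ∈ D.unipotentRadical F J) :
    ∀ S : List ℕ, (∀ j ∈ S, j < D.rank ∧ coef D j y = 0) →
      y ∈ RU D hB F (fun r => ¬ D.InRootSub J r ∧ ∀ j ∈ S, r ≠ D.simple j) := by
  intro S
  induction S with
  | nil =>
    intro _
    rw [← RU_UJ D hB J] at hy
    refine RU_mono D hB _ _ ?_ hy
    intro r _ h
    exact ⟨h, fun j hj => absurd hj List.not_mem_nil⟩
  | cons j S ih =>
    intro hS
    have hy' := ih (fun k hk => hS k (List.mem_cons_of_mem _ hk))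
    obtain ⟨hj, hcj⟩ := hS j List.mem_cons_self
    have hI : Ideal2 D (fun r => ¬ D.InRootSub J r ∧ ∀ k ∈ j :: S, r ≠ D.simple k)
        (fun r => ¬ D.InRootSub J r ∧ ∀ k ∈ j :: S, r ≠ D.simple k) := by
      intro r s hr hΨ hs _ c hc
      obtain ⟨h1, h2, _⟩ := commTerms_facts C hB J r s hr hs c hc
      refine ⟨h1, h2 (Or.inl hΨ.1), fun k hk => ?_⟩
      exact commTerms_ns C hB r s hr hs c hc k (hS k hk).1
    obtain ⟨a, k, hk, e⟩ := peel D hB hC _ _ hI (D.simple j) (C.simple_pos j hj)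
      (fun r _ hΨ hne => ⟨hΨ.1, fun k hk => by
        rcases List.mem_cons.mp hk with rfl | hk
        · exact hne
        · exact hΨ.2 k hk⟩) y hy'
    have hkU := RU_le_U D hB _ hk
    have h1 := coef_mul D hB hpi j _ _ (h8xU_mem_U D hB _ (C.simple_pos j hj) a) hkU
    rw [← e, hcj, coef_xU_simple D hB hpi C.simple_pos j hj,
      coef_RU_ne D hB hpi j hj _ (fun r _ hΨ => hΨ.2 j List.mem_cons_self) k hk, add_zero] at h1
    rw [e, ← h1, h8xU_zero, one_mul]
    exact hk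

/-- The isolation of a fundamental root element modulo higher terms. -/
theorem iso_mod (J : Set ℕ) (i : ℕ) (hi : i < D.rank) (y : GL D.Idx F)
    (hy : y ∈ D.unipotentRadical F J) (hz : ∀ j < D.rank, j ≠ i → coef D j y = 0) :
    ∃ w ∈ Fil D hB F m J d, y = h8xU D hB (D.simple i) (coef D i y) * w := by
  have hy' := peel_list C hB hC hpi J y hy ((List.range D.rank).filter fun j => j ≠ i)
    (fun j hj => by
      rw [List.mem_filter, List.mem_range, decide_eq_true_eq] at hj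
      exact ⟨hj.1, hz j hj.1 hj.2⟩)
  have hI : Ideal2 D (fun r => ¬ D.InRootSub J r ∧ ∀ k < D.rank, r ≠ D.simple k)
      (fun r => ¬ D.InRootSub J r ∧ ∀ k < D.rank, r ≠ D.simple k) := by
    intro r s hr hΨ hs _ c hc
    obtain ⟨h1, h2, _⟩ := commTerms_facts C hB J r s hr hs c hc
    exact ⟨h1, h2 (Or.inl hΨ.1), commTerms_ns C hB r s hr hs c hc⟩
  obtain ⟨a, k, hk, e⟩ := peel D hB hC _ _ hI (D.simple i) (C.simple_pos i hi)
    (fun r _ hΨ hne => ⟨hΨ.1, fun k hk => by
      by_cases hki : k = i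
      · rw [hki]; exact hne
      · apply hΨ.2 k
        rw [List.mem_filter, List.mem_range, decide_eq_true_eq]
        exact ⟨hk, hki⟩⟩) y hy'
  have hkU := RU_le_U D hB _ hk
  have h1 := coef_mul D hB hpi i _ _ (h8xU_mem_U D hB _ (C.simple_pos i hi) a) hkU
  rw [← e, coef_xU_simple D hB hpi C.simple_pos i hi,
    coef_RU_ne D hB hpi i hi _ (fun r _ hΨ => hΨ.2 i hi) k hk, add_zero] at h1
  refine ⟨k, ?_, by rw [h1]; exact e⟩
  refine RU_mono D hB _ _ ?_ hk
  intro r hr hΨ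
  exact ⟨hΨ.1, C.lv_ns r hr hΨ.2⟩

end ctx

end Cfsg.Agent.Lib.helper7.Wc
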