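import Mathlib
import Cfsg.Prelude.Def_ChevStructure
import Cfsg.Agent.Lib.helper7.Wc.Cert
import Cfsg.Agent.Lib.helper7.Wc.Iso
import Cfsg.Agent.Lib.helper8.ChevPar2
import Cfsg.Agent.Lib.helper8.ChevTits2
import Cfsg.Agent.Lib.helper8.ChevTriNeg

set_option autoImplicit false

/-!
The reduction: a weakly closed subgroup `X` of `U` is normalized by `B` and by the `n_i` with
vanishing `i`-th coefficient, lies in the corresponding `U_J`, and then equals it.
-/

namespace Cfsg.Agent.Lib.helper7.Wc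

open Cfsg.Lie Cfsg.Lie.ChevalleyDatum Cfsg.Agent.Lib.helper8

universe u

section grp

variable {G : Type*} [Group G]

theorem conj_closure_mem (S : Set G) (K : Subgroup G) (n : G)
    (h : ∀ g ∈ S, n * g * n⁻¹ ∈ K) : ∀ y ∈ Subgroup.closure S, n * y * n⁻¹ ∈ K := by
  intro y hy
  induction hy using Subgroup.closure_induction with
  | mem g hg => exact h g hg
  | one => simp [Subgroup.one_mem]
  | mul a b _ _ ha hb =>
    have e : n * (a * b) * n⁻¹ = (n * a * n⁻¹) * (n * b * n⁻¹) := by group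
    rw [e]
    exact Subgroup.mul_mem _ ha hb
  | inv a _ ha =>
    have e : n * a⁻¹ * n⁻¹ = (n * a * n⁻¹)⁻¹ := by group
    rw [e]
    exact Subgroup.inv_mem _ ha

/-- Weak closure gives normalization. -/
theorem wc_conj (X U G' : Subgroup G)
    (hwc : ∀ g ∈ G', X.map (MulAut.conj g).toMonoidHom ≤ U →
      X.map (MulAut.conj g).toMonoidHom = X)
    (g : G) (hg : g ∈ G') (h : ∀ x ∈ X, g * x * g⁻¹ ∈ U) :
    ∀ x ∈ X, g * x * g⁻¹ ∈ X ∧ g⁻¹ * x * g ∈ X := by
  have hmap : X.map (MulAut.conj g).toMonoidHom ≤ U := by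
    rintro _ ⟨x, hx, rfl⟩
    exact h x hx
  have heq := hwc g hg hmap
  intro x hx
  constructor
  · rw [← heq]
    exact ⟨x, hx, rfl⟩
  · have hx' : x ∈ X.map (MulAut.conj g).toMonoidHom := by rw [heq]; exact hx
    obtain ⟨y, hy, rfl⟩ := hx'
    have : g⁻¹ * (MulAut.conj g).toMonoidHom y * g = y := by
      show g⁻¹ * (g * y * g⁻¹) * g = y
      group
    rw [this]
    exact hy

end grp

variable {F : Type u} [Field F]

/-- The sum of the coroot coefficients of a positive root. -/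
def htc (D : ChevalleyDatum) (r : ℕ) : ℕ :=
  ((List.range D.rank).map fun k => ((D.coroot.getD r #[]).getD k 0).toNat).sum

/-- The descent check: a positive root is fundamental or is lowered by a fundamental reflection
in its support. -/
def descChk (D : ChevalleyDatum) : Bool :=
  D.posRoots.all fun γ =>
    (List.range D.rank).any fun i =>
      decide ((D.coroot.getD γ #[]).getD i 0 ≠ 0) &&
      (decide (γ = D.simple i) ||
       (decide (D.IsPosRoot (D.reflectRoot i γ)) &&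
        decide (htc D (D.reflectRoot i γ) < htc D γ) &&
        (List.range D.rank).all fun k =>
          decide ((D.coroot.getD γ #[]).getD k 0 = 0 →
            (D.coroot.getD (D.reflectRoot i γ) #[]).getD k 0 = 0)))

theorem descChk_spec (D : ChevalleyDatum) (h : descChk D = true) (γ : ℕ) (hγ : D.IsPosRoot γ) :
    ∃ i < D.rank, (D.coroot.getD γ #[]).getD i 0 ≠ 0 ∧
      (γ = D.simple i ∨ (D.IsPosRoot (D.reflectRoot i γ) ∧
        htc D (D.reflectRoot i γ) < htc D γ ∧
        ∀ k < D.rank, (D.coroot.getD γ #[]).getD k 0 = 0 →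
          (D.coroot.getD (D.reflectRoot i γ) #[]).getD k 0 = 0)) := by
  unfold descChk at h
  rw [List.all_eq_true] at h
  have hmem : γ ∈ D.posRoots := by
    unfold ChevalleyDatum.posRoots
    rw [List.mem_filter, List.mem_range]
    exact ⟨hγ.1, by simpa using hγ⟩
  have h1 := h γ hmem
  simp only [List.any_eq_true, List.mem_range, Bool.and_eq_true, decide_eq_true_eq,
    Bool.or_eq_true, List.all_eq_true] at h1
  obtain ⟨i, hi, h2, h3⟩ := h1
  refine ⟨i, hi, h2, ?_⟩
  rcases h3 with h3 | ⟨⟨h3, h4⟩, h5⟩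
  · exact Or.inl h3
  · exact Or.inr ⟨h3, h4, h5⟩

/-- A positive root of `Φ_J` is made negative by a word in `J`. -/
theorem desc_word (D : ChevalleyDatum) (hB : H8Base.{u} D) (hO2 : H8Ord2 D)
    (hdesc : descChk D = true) (J : Set ℕ) :
    ∀ (n γ : ℕ), htc D γ ≤ n → D.IsPosRoot γ → D.InRootSub J γ →
      ∃ w : List ℕ, (∀ i ∈ w, i ∈ J ∧ i < D.rank) ∧ D.IsNegRoot (h8sW D w γ) := by
  have base : ∀ γ i, i < D.rank → (D.coroot.getD γ #[]).getD i 0 ≠ 0 → D.IsPosRoot γ →
      D.InRootSub J γ → γ = D.simple i →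
      ∃ w : List ℕ, (∀ i ∈ w, i ∈ J ∧ i < D.rank) ∧ D.IsNegRoot (h8sW D w γ) := by
    intro γ i hi hne hγ hJγ he
    have hiJ : i ∈ J := by
      by_contra hn
      exact hne (hJγ.2 i hi hn)
    refine ⟨[i], fun j hj => by rw [List.mem_singleton.mp hj]; exact ⟨hiJ, hi⟩, ?_⟩
    have e1 : h8sW D [i] γ = D.reflectRoot i γ := rfl
    rw [e1, he, h8reflectRoot_simple]
    exact h8neg_of_pos D hB hO2 _ (he ▸ hγ)
  intro n
  induction n with
  | zero =>
    intro γ hn hγ hJγ
    obtain ⟨i, hi, hne, h1 | ⟨_, h3, _⟩⟩ := descChk_spec D hdesc γ hγ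
    · exact base γ i hi hne hγ hJγ h1
    · omega
  | succ n ih =>
    intro γ hn hγ hJγ
    obtain ⟨i, hi, hne, h1 | ⟨h2, h3, h4⟩⟩ := descChk_spec D hdesc γ hγ
    · exact base γ i hi hne hγ hJγ h1
    · have hiJ : i ∈ J := by
        by_contra hn'
        exact hne (hJγ.2 i hi hn')
      have hJ' : D.InRootSub J (D.reflectRoot i γ) :=
        ⟨h2.1, fun k hk hkJ => h4 k hk (hJγ.2 k hk hkJ)⟩
      obtain ⟨w, hw, hneg⟩ := ih (D.reflectRoot i γ) (by omega) h2 hJ'
      refine ⟨w ++ [i], ?_, ?_⟩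
      · intro j hj
        rcases List.mem_append.mp hj with hj | hj
        · exact hw j hj
        · rw [List.mem_singleton.mp hj]; exact ⟨hiJ, hi⟩
      · rw [h8sW_append]
        exact hneg

/-- The action of the element `n_w` on the root subgroups. -/
theorem nWU_act (D : ChevalleyDatum) (hB : H8Base.{u} D) (hA : H8ReflAll D) :
    ∀ (w : List ℕ), (∀ i ∈ w, i < D.rank) → ∀ s < D.nroots,
      H8Act D hB (h8nWU D hB w : GL D.Idx F) s (h8sW D w s) := by
  intro w
  induction w with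
  | nil =>
    intro _ s _
    refine ⟨1, one_ne_zero, fun t => ?_⟩
    have : (h8nWU D hB [] : GL D.Idx F) = 1 := by unfold h8nWU; simp
    rw [this, one_mul, inv_one, mul_one, one_mul]
    rfl
  | cons i w ih =>
    intro hw s hs
    have hw' : ∀ j ∈ w, j < D.rank := fun j hj => hw j (List.mem_cons_of_mem _ hj)
    have e : (h8nWU D hB (i :: w) : GL D.Idx F) = h8nU D hB (D.simple i) 1 * h8nWU D hB w := by
      unfold h8nWU
      rw [List.map_cons, List.prod_cons]
    rw [e]
    exact h8act_mul D hB _ _ s _ _ (ih hw' s hs)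
      (h8act_nU D hB hA i (hw i List.mem_cons_self) _ (h8sW_lt D hA w hw' s hs))

theorem tri_inf_V' (D : ChevalleyDatum) (hB : H8Base.{u} D) (hN : h8NegOK D = true)
    (g : GL D.Idx F) (hU : g ∈ D.posUnipotent F) (hV : g ∈ D.negUnipotent F) : g = 1 := by
  have h1 : H8Tri (h8rho D) 0 (g : Matrix D.Idx D.Idx F) :=
    h8unitri_tri (h8_posUnipotent_unitri D hB.posOK g hU)
  have h2 := h8_negUnipotent_unitri D hN g hV
  apply Units.ext
  rw [Units.val_one]
  ext i j
  by_cases hij : i = j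
  · subst hij
    by_contra hne
    have h3 : ((g : Matrix D.Idx D.Idx F) - 1) i i ≠ 0 := by
      rw [Matrix.sub_apply, Matrix.one_apply_eq]
      intro h0
      apply hne
      rw [Matrix.one_apply_eq]
      exact sub_eq_zero.mp h0
    have := h2 i i h3
    omega
  · rw [Matrix.one_apply_ne hij]
    by_contra hne
    have h3 : ((g : Matrix D.Idx D.Idx F) - 1) i j ≠ 0 := by
      rw [Matrix.sub_apply, Matrix.one_apply_ne hij, sub_zero]
      exact hne
    have h4 := h2 i j h3
    rw [h8rho'_le_iff] at h4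
    have h5 := h1 i j hne
    omega

/-- A subgroup of `U` normalized by the `n_j`, `j ∈ J`, lies in `U_J`. -/
theorem le_UJ (D : ChevalleyDatum) (hB : H8Base.{u} D) (hA : H8ReflAll D)
    (hC : H8CommAll.{u} D) (hBN : H8BN D) (hO : H8Ord D) (hO2 : H8Ord2 D)
    (hdesc : descChk D = true) (X : Subgroup (GL D.Idx F)) (hXU : X ≤ D.posUnipotent F)
    (J : Set ℕ)
    (hn : ∀ i ∈ J, i < D.rank → ∀ x ∈ X,
      h8nU D hB (D.simple i) 1 * x * (h8nU D hB (D.simple i) 1)⁻¹ ∈ X) :
    X ≤ D.unipotentRadical F J := by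
  intro x hx
  obtain ⟨t, ⟨ht0, ht⟩, _⟩ := (h8ord_main D hB hC hO hO2).1 x (hXU hx)
  apply mem_UJ_of_coords D hB J x t ht
  intro γ hγ hJγ
  obtain ⟨w, hw, hneg⟩ := desc_word D hB hO2 hdesc J (htc D γ) γ le_rfl hγ hJγ
  have hw' : ∀ i ∈ w, i < D.rank := fun i hi => (hw i hi).2
  -- `n_w` normalizes `X`
  have hnw : ∀ (v : List ℕ), (∀ i ∈ v, i ∈ J ∧ i < D.rank) → ∀ y ∈ X,
      (h8nWU D hB v : GL D.Idx F) * y * (h8nWU D hB v)⁻¹ ∈ X := by
    intro v
    induction v with
    | nil =>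
      intro _ y hy
      have : (h8nWU D hB [] : GL D.Idx F) = 1 := by unfold h8nWU; simp
      rw [this, one_mul, inv_one, mul_one]
      exact hy
    | cons i v ih =>
      intro hv y hy
      have e : (h8nWU D hB (i :: v) : GL D.Idx F) =
          h8nU D hB (D.simple i) 1 * h8nWU D hB v := by
        unfold h8nWU
        rw [List.map_cons, List.prod_cons]
      have e2 : h8nU D hB (D.simple i) 1 * h8nWU D hB v * y *
          (h8nU D hB (D.simple i) 1 * h8nWU D hB v)⁻¹ =
          h8nU D hB (D.simple i) 1 * (h8nWU D hB v * y * (h8nWU D hB v)⁻¹) *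
            (h8nU D hB (D.simple i) (1 : F))⁻¹ := by group
      rw [e, e2]
      obtain ⟨hiJ, hi⟩ := hv i List.mem_cons_self
      exact hn i hiJ hi _ (ih (fun j hj => hv j (List.mem_cons_of_mem _ hj)) y hy)
  set n : GL D.Idx F := h8nWU D hB w with hn'
  have hact := nWU_act (F := F) D hB hA w hw'
  obtain ⟨t', ht'⟩ := h8split_main D hB hC hO (fun r => decide (D.IsPosRoot (h8sW D w r))) x
    (hXU hx)
  have hP := h8ordP_mem D hB (fun r => decide (D.IsPosRoot (h8sW D w r))) 0 t'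
  have hQ := h8ordQ_mem D hB (fun r => decide (D.IsPosRoot (h8sW D w r))) 0 t'
  set yP : GL D.Idx F :=
    h8wordU D hB (h8ordP D (fun r => decide (D.IsPosRoot (h8sW D w r))) 0 t') with hyP
  set yQ : GL D.Idx F :=
    h8wordU D hB (h8ordQ D (fun r => decide (D.IsPosRoot (h8sW D w r))) 0 t') with hyQ
  have hPU : n * yP * n⁻¹ ∈ D.posUnipotent F := by
    refine conj_closure_mem _ _ n ?_ yP hP
    rintro g ⟨r, c, hr, hPr, rfl⟩
    obtain ⟨c', _, hc'⟩ := hact r hr.1
    rw [hc']
    exact h8xU_mem_U D hB _ (by simpa using hPr) _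
  have hQV : n * yQ * n⁻¹ ∈ D.negUnipotent F := by
    refine conj_closure_mem _ _ n ?_ yQ hQ
    rintro g ⟨r, c, hr, hPr, rfl⟩
    obtain ⟨c', _, hc'⟩ := hact r hr.1
    rw [hc']
    have hnr : D.IsNegRoot (h8sW D w r) := by
      rcases hB.posneg _ (h8sW_lt D hA w hw' r hr.1) with hp | hn''
      · simp [hp] at hPr
      · exact hn''
    unfold ChevalleyDatum.negUnipotent
    exact Subgroup.subset_closure ⟨_, _, hnr, h8xU_val D hB _ _⟩
  have hQU : n * yQ * n⁻¹ ∈ D.posUnipotent F := by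
    have e : n * yQ * n⁻¹ = (n * yP * n⁻¹)⁻¹ * (n * x * n⁻¹) := by rw [ht']; group
    rw [e]
    exact Subgroup.mul_mem _ (Subgroup.inv_mem _ hPU) (hXU (hnw w hw x hx))
  have h1 := tri_inf_V' D hB hBN.negOK _ hQU hQV
  have hyQ1 : yQ = 1 := by
    have : yQ = n⁻¹ * (n * yQ * n⁻¹) * n := by group
    rw [this, h1]
    group
  rw [hyQ1, mul_one] at ht'
  apply coords_of_ordP D hB hC hO hO2 _ t' x (hXU hx) ht' t ht0 ht γ
  have hnp : ¬ D.IsPosRoot (h8sW D w γ) := by
    intro hp
    have h2 := (h8PosOK_spec hB.posOK hp).1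
    have h3 := (h8NegOK_spec hBN.negOK hneg).1
    omega
  simp [hnp]

end Cfsg.Agent.Lib.helper7.Wc
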