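import Mathlib
import Cfsg.Prelude.Def_ChevStructure
import Cfsg.Agent.Lib.helper7.Wc.Red

set_option autoImplicit false

/-!
The generic form of the theorem on weakly closed subgroups of `U`, from the table facts.
-/

namespace Cfsg.Agent.Lib.helper7.Wc

open Cfsg.Lie Cfsg.Lie.ChevalleyDatum Cfsg.Agent.Lib.helper8

universe u

variable {F : Type u} [Field F]

theorem wc_generic {D : ChevalleyDatum} {m : List (List ℤ)} {d : ℤ} (C : Ctx D m d)
    (hB : H8Base.{u} D) (hA : H8ReflAll D) (hC : H8CommAll.{u} D) (hBN : H8BN D)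
    (hO : H8Ord D) (hO2 : H8Ord2 D) (hpi : Sf.piChk D = true) (hsim : h8simChk D = true)
    (hdesc : descChk D = true) [Fintype F]
    (hiso : ∀ i j, i < D.rank → j < D.rank → j ≠ i → ∃ r < D.nroots,
      h8K D r (D.simple j) = 0 ∧ ∃ l : F, l ≠ 0 ∧ l ^ (h8K D r (D.simple i)) ≠ 1)
    (hKii : ∀ i < D.rank, h8K D (D.simple i) (D.simple i) = 2)
    (hcert : ∀ k, D.IsPosRoot k → (∀ i < D.rank, k ≠ D.simple i) → Cert D hB F m k)
    (X : Subgroup (GL D.Idx F)) (hXU : X ≤ D.posUnipotent F)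
    (hwc : ∀ g ∈ D.group F, X.map (MulAut.conj g).toMonoidHom ≤ D.posUnipotent F →
      X.map (MulAut.conj g).toMonoidHom = X) :
    ∃ J : Set ℕ, (∀ j ∈ J, j < D.rank) ∧ X = D.unipotentRadical F J := by
  classical
  set J : Set ℕ := {i | i < D.rank ∧ ∀ x ∈ X, coef D i x = 0} with hJ
  refine ⟨J, fun j hj => hj.1, ?_⟩
  have hBU : D.borelSubgroup F ≤
      Subgroup.normalizer (D.posUnipotent F : Set (GL D.Idx F)) := by
    unfold ChevalleyDatum.borelSubgroup
    exact sup_le Subgroup.le_normalizer (h8_H_le_normalizer_U D hB)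
  have hBG : D.borelSubgroup F ≤ D.group F := by
    unfold ChevalleyDatum.borelSubgroup
    exact sup_le (h8_U_le_group D) (h8_H_le_group D hB)
  have hBX : ∀ b ∈ D.borelSubgroup F, ∀ x ∈ X, b * x * b⁻¹ ∈ X := by
    intro b hb x hx
    refine (wc_conj X _ _ hwc b (hBG hb) ?_ x hx).1
    intro y hy
    exact (Subgroup.mem_normalizer_iff.mp (hBU hb) y).mp (hXU hy)
  have hUX : ∀ v ∈ D.posUnipotent F, ∀ x ∈ X, v * x * v⁻¹ ∈ X :=
    fun v hv => hBX v (h8U_le_B D hv)
  have hHX : ∀ r < D.nroots, ∀ c : F, c ≠ 0 → ∀ x ∈ X,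
      h8hU D hB r c * x * (h8hU D hB r c)⁻¹ ∈ X :=
    fun r hr c hc => hBX _ (h8H_le_B D (h8hU_mem_H D hB r hr c hc))
  have hnX : ∀ i ∈ J, i < D.rank → ∀ x ∈ X,
      h8nU D hB (D.simple i) 1 * x * (h8nU D hB (D.simple i) 1)⁻¹ ∈ X := by
    intro i hiJ hi x hx
    refine (wc_conj X _ _ hwc _ (h8wordU_mem_group D hB _) ?_ x hx).1
    intro y hy
    have hyU := hXU hy
    rw [← RU_top D hB] at hyU
    have hI : Ideal2 D (fun r => r ≠ D.simple i) (fun r => r ≠ D.simple i) := by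
      intro r s hr _ hs _ c hc
      obtain ⟨h1, _⟩ := commTerms_facts C hB ∅ r s hr hs c hc
      exact ⟨h1, commTerms_ns C hB r s hr hs c hc i hi⟩
    obtain ⟨a, k, hk, e⟩ := peel D hB hC _ _ hI (D.simple i) (C.simple_pos i hi)
      (fun r _ _ hne => hne) y hyU
    have hkU := RU_le_U D hB _ hk
    have h1 := coef_mul D hB hpi i _ _ (h8xU_mem_U D hB _ (C.simple_pos i hi) a) hkU
    rw [← e, hiJ.2 y hy, coef_xU_simple D hB hpi C.simple_pos i hi,
      coef_RU_ne D hB hpi i hi _ (fun r _ h => h) k hk, add_zero] at h1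
    rw [e, ← h1, h8xU_zero, one_mul]
    have hk' : k ∈ Subgroup.closure (h8UpSet D F (D.simple i)) := by
      refine Subgroup.closure_mono ?_ hk
      rintro g ⟨r, t, hr, hne, rfl⟩
      exact ⟨r, t, hr, hne, h8xU_val D hB r t⟩
    have hsn := h8nU_normalizes_up (F := F) D hB hA i hi (hBN.sp i hi)
    have h2 := (Subgroup.mem_normalizer_iff.mp hsn k).mp hk'
    have hle : Subgroup.closure (h8UpSet D F (D.simple i)) ≤ D.posUnipotent F := by
      unfold ChevalleyDatum.posUnipotent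
      apply Subgroup.closure_mono
      rintro g ⟨s, t, hs, _, hg⟩
      exact ⟨s, t, hs, hg⟩
    exact hle h2
  have hXJ := le_UJ D hB hA hC hBN hO hO2 hdesc X hXU J hnX
  apply le_antisymm hXJ
  apply main_lemma C hB hC J X hXU hUX ?_ hcert
  intro i hi hnJ a
  have hiJ : i ∉ J := fun h => hnJ (h8simChk_spec D hsim J i hi h).1
  have hex : ∃ x₀ ∈ X, coef D i x₀ ≠ 0 := by
    by_contra hcon
    simp only [not_exists, not_and, not_not] at hcon
    exact hiJ ⟨hi, hcon⟩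
  obtain ⟨x₀, hx₀, hne⟩ := hex
  obtain ⟨y₀, hy₀, hyi, hyS⟩ := iso_kill hB hpi X hXU hHX i hi
    (fun j hj hji => hiso i j hi hj hji) x₀ hx₀ hne
    ((List.range D.rank).filter fun j => j ≠ i) (by
      intro j hj
      rw [List.mem_filter, List.mem_range, decide_eq_true_eq] at hj
      exact hj)
  have hz : ∀ j < D.rank, j ≠ i → coef D j y₀ = 0 := fun j hj hji => hyS j (by
    rw [List.mem_filter, List.mem_range, decide_eq_true_eq]
    exact ⟨hj, hji⟩)
  obtain ⟨y, hy, hya, hyz⟩ := iso_span hB hpi X hXU hHX i hi (hKii i hi) y₀ hy₀ hyi hz a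
  obtain ⟨w, hw, e⟩ := iso_mod C hB hC hpi J i hi y (hXJ hy) hyz
  exact ⟨y, hy, w, hw, by rw [← hya]; exact e⟩

end Cfsg.Agent.Lib.helper7.Wc
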