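import Mathlib
import Cfsg.Prelude.Def_ChevStructure
import Cfsg.Agent.Lib.helper7.Wc.Gen
import Cfsg.Agent.Lib.helper7.SfT
import Cfsg.Agent.Lib.helper8.ChevBaseAll
import Cfsg.Agent.Lib.helper8.ChevReflAll
import Cfsg.Agent.Lib.helper8.ChevCommAll
import Cfsg.Agent.Lib.helper8.ChevBNAll
import Cfsg.Agent.Lib.helper8.ChevOrdAll
import Cfsg.Agent.Lib.helper8.ChevLvlTab

set_option autoImplicit false

/-!
The decidable table checks behind the theorem on weakly closed subgroups, and the theorem from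
the checks.
-/

namespace Cfsg.Agent.Lib.helper7.Wc

open Cfsg.Lie Cfsg.Lie.ChevalleyDatum Cfsg.Agent.Lib.helper8

universe u

/-- Heights of the fundamental and of the other positive roots. -/
def lvChk (D : ChevalleyDatum) (m : List (List ℤ)) (d : ℤ) : Bool :=
  decide (0 < d) && ((List.range D.rank).all fun i => decide (lvT D m (D.simple i) = d)) &&
  D.posRoots.all fun r =>
    ((List.range D.rank).any fun i => decide (r = D.simple i)) || decide (d < lvT D m r)

theorem lvChk_spec (D : ChevalleyDatum) (m : List (List ℤ)) (d : ℤ) (h : lvChk D m d = true) :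
    0 < d ∧ (∀ i < D.rank, lvT D m (D.simple i) = d) ∧
      ∀ r, D.IsPosRoot r → (∀ i < D.rank, r ≠ D.simple i) → d < lvT D m r := by
  unfold lvChk at h
  simp only [Bool.and_eq_true, decide_eq_true_eq, List.all_eq_true, List.mem_range,
    Bool.or_eq_true, List.any_eq_true] at h
  obtain ⟨⟨h1, h2⟩, h3⟩ := h
  refine ⟨h1, h2, fun r hr hns => ?_⟩
  have hmem : r ∈ D.posRoots := by
    unfold ChevalleyDatum.posRoots
    rw [List.mem_filter, List.mem_range]
    exact ⟨hr.1, by simpa using hr⟩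
  rcases h3 r hmem with ⟨i, hi, he⟩ | h4
  · exact absurd he (hns i hi)
  · exact h4

/-- The pairing `⟨v, r^∨⟩`, computably. -/
def KL (D : ChevalleyDatum) (r v : ℕ) : ℤ :=
  ((List.range D.rank).map fun k => (D.coroot.getD r #[]).getD k 0 * D.cartan k v).sum

theorem sum_range_list (f : ℕ → ℤ) : ∀ n : ℕ,
    ∑ i ∈ Finset.range n, f i = ((List.range n).map f).sum
  | 0 => by simp
  | n + 1 => by
    rw [Finset.sum_range_succ, List.range_succ, List.map_append, List.sum_append,
      sum_range_list f n]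
    simp

theorem h8K_eq_KL (D : ChevalleyDatum) (r v : ℕ) : h8K D r v = KL D r v := by
  unfold h8K KL
  rw [← sum_range_list]
  exact Fin.sum_univ_eq_sum_range
    (fun k => (D.coroot.getD r #[]).getD k 0 * D.cartan k v) D.rank

def kiiChk (D : ChevalleyDatum) : Bool :=
  (List.range D.rank).all fun i => decide (KL D (D.simple i) (D.simple i) = 2)

theorem kiiChk_spec (D : ChevalleyDatum) (h : kiiChk D = true) (i : ℕ) (hi : i < D.rank) :
    h8K D (D.simple i) (D.simple i) = 2 := by
  unfold kiiChk at h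
  simp only [List.all_eq_true, List.mem_range, decide_eq_true_eq] at h
  rw [h8K_eq_KL]
  exact h i hi

/-- The torus elements isolating the fundamental roots: `tab[i][j]` is a root `r` with
`⟨p_j, r^∨⟩ = 0` and `⟨p_i, r^∨⟩ = ±1` (or `±2` if `allow2`). -/
def isoChk (D : ChevalleyDatum) (allow2 : Bool) (tab : List (List ℕ)) : Bool :=
  (List.range D.rank).all fun i => (List.range D.rank).all fun j => decide (j = i) ||
    (decide ((tab.getD i []).getD j 0 < D.nroots) &&
      decide (KL D ((tab.getD i []).getD j 0) (D.simple j) = 0) &&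
      (decide (KL D ((tab.getD i []).getD j 0) (D.simple i) = 1) ||
       decide (KL D ((tab.getD i []).getD j 0) (D.simple i) = -1) ||
       (allow2 && (decide (KL D ((tab.getD i []).getD j 0) (D.simple i) = 2) ||
         decide (KL D ((tab.getD i []).getD j 0) (D.simple i) = -2)))))

theorem isoChk_spec (D : ChevalleyDatum) (allow2 : Bool) (tab : List (List ℕ))
    (h : isoChk D allow2 tab = true) (i j : ℕ) (hi : i < D.rank) (hj : j < D.rank)
    (hji : j ≠ i) :
    ∃ r < D.nroots, h8K D r (D.simple j) = 0 ∧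
      ((h8K D r (D.simple i) = 1 ∨ h8K D r (D.simple i) = -1) ∨
        (allow2 = true ∧ (h8K D r (D.simple i) = 2 ∨ h8K D r (D.simple i) = -2))) := by
  unfold isoChk at h
  simp only [List.all_eq_true, List.mem_range, Bool.or_eq_true, Bool.and_eq_true,
    decide_eq_true_eq] at h
  rcases h i hi j hj with h1 | ⟨⟨h1, h2⟩, h3⟩
  · exact absurd h1 hji
  · refine ⟨_, h1, by rw [h8K_eq_KL]; exact h2, ?_⟩
    rw [h8K_eq_KL]
    rcases h3 with (h3 | h3) | ⟨h3, h4⟩
    · exact Or.inl (Or.inl h3)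
    · exact Or.inl (Or.inr h3)
    · exact Or.inr ⟨h3, h4⟩

/-- A certificate `(k, r, s)` of the first kind: `k = r + s` with structure constant `±1`. -/
def cert1Chk (D : ChevalleyDatum) (m : List (List ℤ)) (k r s : ℕ) : Bool :=
  decide (D.IsPosRoot r) && decide (D.IsPosRoot s) && decide (s ≠ r) &&
  decide (D.commTerms r s =
    (k, ((D.commTerms r s).headD (0, 0, 0, 0)).2.1, 1, 1) :: (D.commTerms r s).tail) &&
  (decide (((D.commTerms r s).headD (0, 0, 0, 0)).2.1 = 1) ||
    decide (((D.commTerms r s).headD (0, 0, 0, 0)).2.1 = -1)) &&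
  (D.commTerms r s).tail.all fun c => decide (lvT D m k < lvT D m c.1)

/-- All non-fundamental positive roots outside `bad` have a certificate of the first kind. -/
def certChk (D : ChevalleyDatum) (m : List (List ℤ)) (tab : List (ℕ × ℕ × ℕ))
    (bad : List ℕ) : Bool :=
  D.posRoots.all fun k =>
    ((List.range D.rank).any fun i => decide (k = D.simple i)) || bad.contains k ||
      tab.any fun e => decide (e.1 = k) && cert1Chk D m k e.2.1 e.2.2

variable {F : Type u} [Field F]

theorem cert1Chk_spec {D : ChevalleyDatum} {m : List (List ℤ)} {d : ℤ} (C : Ctx D m d)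
    (hB : H8Base.{u} D) (hC : H8CommAll.{u} D) (k r s : ℕ) (h : cert1Chk D m k r s = true) :
    Cert D hB F m k := by
  unfold cert1Chk at h
  simp only [Bool.and_eq_true, decide_eq_true_eq, Bool.or_eq_true, List.all_eq_true] at h
  obtain ⟨⟨⟨⟨⟨hr, hs⟩, hsr⟩, hct⟩, hN⟩, hrest⟩ := h
  refine cert1 C hB hC k r s _ _ hr hs hsr hct hrest ?_
  rcases hN with hN | hN
  · rw [hN]; simp
  · rw [hN]; simp

theorem certChk_spec {D : ChevalleyDatum} {m : List (List ℤ)} {d : ℤ} (C : Ctx D m d)
    (hB : H8Base.{u} D) (hC : H8CommAll.{u} D) (tab : List (ℕ × ℕ × ℕ)) (bad : List ℕ)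
    (h : certChk D m tab bad = true) (k : ℕ) (hk : D.IsPosRoot k)
    (hns : ∀ i < D.rank, k ≠ D.simple i) (hbad : k ∉ bad) : Cert D hB F m k := by
  unfold certChk at h
  rw [List.all_eq_true] at h
  have hmem : k ∈ D.posRoots := by
    unfold ChevalleyDatum.posRoots
    rw [List.mem_filter, List.mem_range]
    exact ⟨hk.1, by simpa using hk⟩
  have h1 := h k hmem
  simp only [Bool.or_eq_true, List.any_eq_true, List.mem_range, decide_eq_true_eq,
    List.contains_iff_mem, Bool.and_eq_true] at h1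
  rcases h1 with (⟨i, hi, he⟩ | h1) | ⟨e, _, _, h2⟩
  · exact absurd he (hns i hi)
  · exact absurd h1 hbad
  · exact cert1Chk_spec C hB hC k _ _ h2

/-- The context from the checks. -/
theorem ctx_of_chk (D : ChevalleyDatum)
    (hD : D ∈ [chevG2, chevB2, chevD4, chevF4, chevE6, chevE7, chevE8]) (m : List (List ℤ))
    (d : ℤ) (hL : h8lvlChk D m = true) (hlv : lvChk D m d = true) : Ctx D m d := by
  have hA := h8reflAll D hD
  have hBN := h8bn_all D hD
  obtain ⟨hrk, -⟩ := h8uq_all D hD
  obtain ⟨η, hR⟩ := h8reflAll_spec D hA 0 hrk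
  obtain ⟨h1, h2, h3⟩ := lvChk_spec D m d hlv
  exact ⟨hL, h8ceChk_sorted D hA.ce, fun a b ha => h8chainEntry_lt D 0 η hR a b ha, h1, h2, h3,
    fun i hi => h8simple_pos D hBN i hi⟩

/-- The theorem from the table checks. -/
theorem wc_of_tables (D : ChevalleyDatum)
    (hD : D ∈ [chevG2, chevB2, chevD4, chevF4, chevE6, chevE7, chevE8]) (m : List (List ℤ))
    (d : ℤ) (hL : h8lvlChk D m = true) (hlv : lvChk D m d = true) (hdesc : descChk D = true)
    (hkii : kiiChk D = true) (allow2 : Bool) (isoTab : List (List ℕ))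
    (hisoT : isoChk D allow2 isoTab = true) [Fintype F] (h2 : 2 < Fintype.card F)
    (h3 : allow2 = true → 3 < Fintype.card F)
    (hcert : ∀ k, D.IsPosRoot k → (∀ i < D.rank, k ≠ D.simple i) →
      Cert D (h8base_all.{u} D hD) F m k)
    (X : Subgroup (GL D.Idx F)) (hXU : X ≤ D.posUnipotent F)
    (hwc : ∀ g ∈ D.group F, X.map (MulAut.conj g).toMonoidHom ≤ D.posUnipotent F →
      X.map (MulAut.conj g).toMonoidHom = X) :
    ∃ J : Set ℕ, (∀ j ∈ J, j < D.rank) ∧ X = D.unipotentRadical F J := by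
  have hB := h8base_all.{u} D hD
  have hA := h8reflAll D hD
  have hC := h8commAll.{u} D hD
  have hBN := h8bn_all D hD
  obtain ⟨hO, hO2⟩ := h8ord_all D hD
  have C := ctx_of_chk D hD m d hL hlv
  refine wc_generic C hB hA hC hBN hO hO2 (Sf.piChk_all D hD) (h8simChk_all D hD) hdesc ?_
    (kiiChk_spec D hkii) hcert X hXU hwc
  intro i j hi hj hji
  obtain ⟨r, hr, hK0, hK⟩ := isoChk_spec D allow2 isoTab hisoT i j hi hj hji
  refine ⟨r, hr, hK0, ?_⟩
  rcases hK with (hK | hK) | ⟨ha, hK | hK⟩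
  · obtain ⟨l, hl0, hl1⟩ := exists_ne01 F h2
    exact ⟨l, hl0, by rw [hK, zpow_one]; exact hl1⟩
  · obtain ⟨l, hl0, hl1⟩ := exists_ne01 F h2
    refine ⟨l, hl0, ?_⟩
    rw [hK, zpow_neg_one]
    exact fun h => hl1 (inv_eq_one.mp h)
  · obtain ⟨l, hl0, hl1⟩ := exists_sq_ne1 F (h3 ha)
    refine ⟨l, hl0, ?_⟩
    rw [hK]
    exact_mod_cast hl1
  · obtain ⟨l, hl0, hl1⟩ := exists_sq_ne1 F (h3 ha)
    refine ⟨l, hl0, ?_⟩
    rw [hK, zpow_neg]
    intro h
    apply hl1
    have := inv_eq_one.mp h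
    exact_mod_cast this

end Cfsg.Agent.Lib.helper7.Wc
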