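import Mathlib
import Cfsg.Prelude.Def_ChevStructure
import Cfsg.Agent.Lib.helper7.Wc.Tab

set_option autoImplicit false

/-!
The table checks for the type B2.
-/

namespace Cfsg.Agent.Lib.helper7.Wc

open Cfsg.Lie Cfsg.Lie.ChevalleyDatum Cfsg.Agent.Lib.helper8

universe u

def isoTab_B2 : List (List ℕ) := [
  [0, 0], [1, 0]]

def certTab_B2 : List (ℕ × ℕ × ℕ) := [
  (6, 4, 5)]

theorem lvChk_B2 : lvChk chevB2 h8lvlM_B2 2 = true := by decide +kernel

theorem descChk_B2 : descChk chevB2 = true := by decide +kernel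

theorem kiiChk_B2 : kiiChk chevB2 = true := by decide +kernel

theorem isoChk_B2 : isoChk chevB2 true isoTab_B2 = true := by decide +kernel

theorem certChk_B2 : certChk chevB2 h8lvlM_B2 certTab_B2 [7] = true := by
  decide +kernel

end Cfsg.Agent.Lib.helper7.Wc
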