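import Mathlib
import Cfsg.Prelude.Def_ChevStructure
import Cfsg.Agent.Lib.helper7.Wc.Tab

set_option autoImplicit false

/-!
The table checks for the type D4.
-/

namespace Cfsg.Agent.Lib.helper7.Wc

open Cfsg.Lie Cfsg.Lie.ChevalleyDatum Cfsg.Agent.Lib.helper8

universe u

def isoTab_D4 : List (List ℕ) := [
  [0, 2, 5, 5], [0, 0, 0, 0], [10, 2, 0, 10], [11, 2, 11, 0]]

def certTab_D4 : List (ℕ × ℕ × ℕ) := [
  (15, 12, 14), (16, 13, 14), (17, 15, 13), (19, 14, 18), (20, 15, 18), (21, 16, 18),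
  (22, 17, 18), (23, 22, 14)]

theorem lvChk_D4 : lvChk chevD4 h8lvlM_D4 2 = true := by decide +kernel

theorem descChk_D4 : descChk chevD4 = true := by decide +kernel

theorem kiiChk_D4 : kiiChk chevD4 = true := by decide +kernel

theorem isoChk_D4 : isoChk chevD4 true isoTab_D4 = true := by decide +kernel

theorem certChk_D4 : certChk chevD4 h8lvlM_D4 certTab_D4 [] = true := by
  decide +kernel

end Cfsg.Agent.Lib.helper7.Wc
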