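import Mathlib
import Cfsg.Prelude.Def_ChevStructure
import Cfsg.Agent.Lib.helper7.Wc.Tab

set_option autoImplicit false

/-!
The table checks for the type E6.
-/

namespace Cfsg.Agent.Lib.helper7.Wc

open Cfsg.Lie Cfsg.Lie.ChevalleyDatum Cfsg.Agent.Lib.helper8

universe u

def isoTab_E6 : List (List ℕ) := [
  [0, 5, 8, 5, 7, 5], [0, 0, 0, 0, 0, 0], [2, 2, 0, 3, 4, 2], [1, 2, 1, 0, 1, 1],
  [2, 2, 9, 3, 0, 2], [3, 3, 8, 3, 4, 0]]

def certTab_E6 : List (ℕ × ℕ × ℕ) := [
  (38, 36, 37), (40, 37, 39), (41, 38, 39), (43, 39, 42), (44, 40, 42), (45, 41, 42),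
  (47, 39, 46), (48, 40, 46), (49, 41, 46), (50, 43, 46), (51, 44, 46), (52, 45, 46),
  (53, 51, 39), (54, 52, 39), (55, 54, 37), (57, 42, 56), (58, 43, 56), (59, 44, 56),
  (60, 45, 56), (61, 50, 56), (62, 51, 56), (63, 52, 56), (64, 53, 56), (65, 54, 56),
  (66, 55, 56), (67, 64, 42), (68, 65, 42), (69, 66, 42), (70, 69, 39), (71, 70, 46)]

theorem lvChk_E6 : lvChk chevE6 h8lvlM_E6 3 = true := by decide +kernel

theorem descChk_E6 : descChk chevE6 = true := by decide +kernel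

theorem kiiChk_E6 : kiiChk chevE6 = true := by decide +kernel

theorem isoChk_E6 : isoChk chevE6 false isoTab_E6 = true := by decide +kernel

theorem certChk_E6 : certChk chevE6 h8lvlM_E6 certTab_E6 [] = true := by
  decide +kernel

end Cfsg.Agent.Lib.helper7.Wc
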