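import Mathlib
import Cfsg.Prelude.Def_ChevStructure
import Cfsg.Agent.Lib.helper7.Wc.Tab

set_option autoImplicit false

/-!
The table checks for the type E7.
-/

namespace Cfsg.Agent.Lib.helper7.Wc

open Cfsg.Lie Cfsg.Lie.ChevalleyDatum Cfsg.Agent.Lib.helper8

universe u

def isoTab_E7 : List (List ℕ) := [
  [0, 0, 0, 0, 0, 0, 0], [3, 0, 3, 4, 5, 3, 3], [2, 1, 0, 1, 1, 1, 1], [2, 2, 3, 0, 2, 2, 2],
  [3, 12, 3, 4, 0, 3, 3], [4, 11, 4, 4, 5, 0, 4], [5, 12, 5, 5, 5, 6, 0]]

def certTab_E7 : List (ℕ × ℕ × ℕ) := [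
  (65, 63, 64), (67, 64, 66), (68, 65, 66), (70, 66, 69), (71, 67, 69), (72, 68, 69),
  (74, 69, 73), (75, 70, 73), (76, 71, 73), (77, 72, 73), (79, 69, 78), (80, 70, 78),
  (81, 71, 78), (82, 72, 78), (83, 74, 78), (84, 75, 78), (85, 76, 78), (86, 77, 78),
  (87, 84, 69), (88, 85, 69), (89, 86, 69), (90, 88, 66), (91, 89, 66), (92, 91, 64),
  (94, 73, 93), (95, 74, 93), (96, 75, 93), (97, 76, 93), (98, 77, 93), (99, 83, 93),
  (100, 84, 93), (101, 85, 93), (102, 86, 93), (103, 87, 93), (104, 88, 93), (105, 89, 93),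
  (106, 90, 93), (107, 91, 93), (108, 92, 93), (109, 103, 73), (110, 104, 73), (111, 105, 73),
  (112, 106, 73), (113, 107, 73), (114, 108, 73), (115, 112, 69), (116, 113, 69),
  (117, 114, 69), (118, 117, 66), (119, 115, 78), (120, 116, 78), (121, 117, 78),
  (122, 118, 78), (123, 122, 69), (124, 123, 73), (125, 124, 93)]

theorem lvChk_E7 : lvChk chevE7 h8lvlM_E7 2 = true := by decide +kernel

theorem descChk_E7 : descChk chevE7 = true := by decide +kernel

theorem kiiChk_E7 : kiiChk chevE7 = true := by decide +kernel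

theorem isoChk_E7 : isoChk chevE7 false isoTab_E7 = true := by decide +kernel

theorem certChk_E7 : certChk chevE7 h8lvlM_E7 certTab_E7 [] = true := by
  decide +kernel

end Cfsg.Agent.Lib.helper7.Wc
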