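import Mathlib
import Cfsg.Prelude.Def_ChevStructure
import Cfsg.Agent.Lib.helper7.Wc.Tab

set_option autoImplicit false

/-!
The table checks for the type E8.
-/

namespace Cfsg.Agent.Lib.helper7.Wc

open Cfsg.Lie Cfsg.Lie.ChevalleyDatum Cfsg.Agent.Lib.helper8

universe u

def isoTab_E8 : List (List ℕ) := [
  [0, 9, 9, 6, 6, 6, 6, 6], [5, 0, 14, 6, 5, 5, 5, 5], [5, 16, 0, 6, 5, 5, 5, 5],
  [4, 4, 4, 0, 5, 4, 4, 4], [3, 3, 3, 3, 0, 4, 3, 3], [2, 2, 2, 2, 2, 0, 3, 2],
  [1, 1, 1, 1, 1, 1, 0, 2], [0, 0, 0, 0, 0, 0, 0, 0]]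

def certTab_E8 : List (ℕ × ℕ × ℕ) := [
  (122, 120, 121), (124, 121, 123), (125, 122, 123), (127, 123, 126), (128, 124, 126),
  (129, 125, 126), (131, 126, 130), (132, 127, 130), (133, 128, 130), (134, 129, 130),
  (136, 130, 135), (137, 131, 135), (138, 132, 135), (139, 133, 135), (140, 134, 135),
  (142, 130, 141), (143, 131, 141), (144, 132, 141), (145, 133, 141), (146, 134, 141),
  (147, 136, 141), (148, 137, 141), (149, 138, 141), (150, 139, 141), (151, 140, 141),
  (152, 148, 130), (153, 149, 130), (154, 150, 130), (155, 151, 130), (156, 153, 126),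
  (157, 154, 126), (158, 155, 126), (159, 157, 123), (160, 158, 123), (161, 160, 121),
  (163, 135, 162), (164, 136, 162), (165, 137, 162), (166, 138, 162), (167, 139, 162),
  (168, 140, 162), (169, 147, 162), (170, 148, 162), (171, 149, 162), (172, 150, 162),
  (173, 151, 162), (174, 152, 162), (175, 153, 162), (176, 154, 162), (177, 155, 162),
  (178, 156, 162), (179, 157, 162), (180, 158, 162), (181, 159, 162), (182, 160, 162),
  (183, 161, 162), (184, 174, 135), (185, 175, 135), (186, 176, 135), (187, 177, 135),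
  (188, 178, 135), (189, 179, 135), (190, 180, 135), (191, 181, 135), (192, 182, 135),
  (193, 183, 135), (194, 188, 130), (195, 189, 130), (196, 190, 130), (197, 191, 130),
  (198, 192, 130), (199, 193, 130), (200, 197, 126), (201, 198, 126), (202, 199, 126),
  (203, 202, 123), (204, 194, 141), (205, 195, 141), (206, 196, 141), (207, 197, 141),
  (208, 198, 141), (209, 199, 141), (210, 200, 141), (211, 201, 141), (212, 202, 141),
  (213, 203, 141), (214, 210, 130), (215, 211, 130), (216, 212, 130), (217, 213, 130),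
  (218, 217, 126), (219, 214, 135), (220, 215, 135), (221, 216, 135), (222, 217, 135),
  (223, 218, 135), (224, 223, 130), (225, 224, 141), (226, 219, 162), (227, 220, 162),
  (228, 221, 162), (229, 222, 162), (230, 223, 162), (231, 224, 162), (232, 231, 135),
  (233, 225, 162), (234, 232, 141), (235, 234, 130), (236, 235, 126), (237, 236, 123),
  (238, 237, 121), (239, 238, 120)]

theorem lvChk_E8 : lvChk chevE8 h8lvlM_E8 1 = true := by decide +kernel

theorem descChk_E8 : descChk chevE8 = true := by decide +kernel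

theorem kiiChk_E8 : kiiChk chevE8 = true := by decide +kernel

theorem isoChk_E8 : isoChk chevE8 false isoTab_E8 = true := by decide +kernel

theorem certChk_E8 : certChk chevE8 h8lvlM_E8 certTab_E8 [] = true := by
  decide +kernel

end Cfsg.Agent.Lib.helper7.Wc
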