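import Mathlib
import Cfsg.Prelude.Def_ChevStructure
import Cfsg.Agent.Lib.helper7.Wc.Tab

set_option autoImplicit false

/-!
The table checks for the type F4.
-/

namespace Cfsg.Agent.Lib.helper7.Wc

open Cfsg.Lie Cfsg.Lie.ChevalleyDatum Cfsg.Agent.Lib.helper8

universe u

def isoTab_F4 : List (List ℕ) := [
  [0, 3, 3, 3], [2, 0, 7, 2], [1, 1, 0, 2], [0, 0, 0, 0]]

def certTab_F4 : List (ℕ × ℕ × ℕ) := [
  (26, 24, 25), (28, 25, 27), (29, 26, 27), (31, 30, 24), (32, 31, 25), (34, 27, 33),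
  (35, 28, 33), (36, 29, 33), (37, 30, 33), (38, 31, 33), (39, 32, 33), (40, 39, 27),
  (42, 41, 24), (43, 42, 25), (44, 40, 33), (45, 42, 30), (46, 45, 25), (47, 46, 24)]

theorem lvChk_F4 : lvChk chevF4 h8lvlM_F4 1 = true := by decide +kernel

theorem descChk_F4 : descChk chevF4 = true := by decide +kernel

theorem kiiChk_F4 : kiiChk chevF4 = true := by decide +kernel

theorem isoChk_F4 : isoChk chevF4 false isoTab_F4 = true := by decide +kernel

theorem certChk_F4 : certChk chevF4 h8lvlM_F4 certTab_F4 [30, 41] = true := by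
  decide +kernel

end Cfsg.Agent.Lib.helper7.Wc
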