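import Mathlib
import Cfsg.Prelude.Def_ChevStructure
import Cfsg.Agent.Lib.helper7.Wc.Tab

set_option autoImplicit false

/-!
The table checks for the type G2.
-/

namespace Cfsg.Agent.Lib.helper7.Wc

open Cfsg.Lie Cfsg.Lie.ChevalleyDatum Cfsg.Agent.Lib.helper8

universe u

def isoTab_G2 : List (List ℕ) := [
  [0, 2], [0, 0]]

def certTab_G2 : List (ℕ × ℕ × ℕ) := [
  (8, 6, 7), (11, 10, 6)]

theorem lvChk_G2 : lvChk chevG2 h8lvlM_G2 1 = true := by decide +kernel

theorem descChk_G2 : descChk chevG2 = true := by decide +kernel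

theorem kiiChk_G2 : kiiChk chevG2 = true := by decide +kernel

theorem isoChk_G2 : isoChk chevG2 false isoTab_G2 = true := by decide +kernel

theorem certChk_G2 : certChk chevG2 h8lvlM_G2 certTab_G2 [9, 10] = true := by
  decide +kernel

end Cfsg.Agent.Lib.helper7.Wc
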