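import Mathlib
import Cfsg.Prelude.Def_ChevStructure
import Cfsg.Agent.Lib.helper7.Wc.TabG2
import Cfsg.Agent.Lib.helper7.Wc.TabB2
import Cfsg.Agent.Lib.helper7.Wc.TabD4
import Cfsg.Agent.Lib.helper7.Wc.TabF4
import Cfsg.Agent.Lib.helper7.Wc.TabE6
import Cfsg.Agent.Lib.helper7.Wc.TabE7
import Cfsg.Agent.Lib.helper7.Wc.TabE8

set_option autoImplicit false

/-!
Weakly closed subgroups of `U` in the Chevalley groups of the seven types: the special
certificates and the theorem.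
-/

namespace Cfsg.Agent.Lib.helper7.Wc

open Cfsg.Lie Cfsg.Lie.ChevalleyDatum Cfsg.Agent.Lib.helper8

universe u

theorem exists_two_ne01 (F : Type*) [Field F] [Fintype F] (h : 3 < Fintype.card F) :
    ∃ l m : F, l ≠ 0 ∧ l ≠ 1 ∧ m ≠ 0 ∧ m ≠ 1 ∧ l ≠ m := by
  classical
  obtain ⟨l, hl0, hl1⟩ := exists_ne01 F (by omega)
  have hc : ({0, 1, l} : Finset F).card < (Finset.univ : Finset F).card := by
    rw [Finset.card_univ]
    exact lt_of_le_of_lt Finset.card_le_three h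
  obtain ⟨e, _, he⟩ := Finset.exists_mem_notMem_of_card_lt_card hc
  simp only [Finset.mem_insert, Finset.mem_singleton, not_or] at he
  exact ⟨l, e, hl0, hl1, he.1, he.2.1, fun h => he.2.2 h.symm⟩

variable {F : Type u} [Field F] [Fintype F]

theorem card_gt_two (h2 : Fintype.card F ≠ 2) : 2 < Fintype.card F := by
  have := Fintype.one_lt_card (α := F)
  omega

theorem card_gt_three (h2 : Fintype.card F ≠ 2) (h3 : Fintype.card F ≠ 3) :
    3 < Fintype.card F := by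
  have := Fintype.one_lt_card (α := F)
  omega

theorem hD_G2 : chevG2 ∈ [chevG2, chevB2, chevD4, chevF4, chevE6, chevE7, chevE8] := by simp
theorem hD_B2 : chevB2 ∈ [chevG2, chevB2, chevD4, chevF4, chevE6, chevE7, chevE8] := by simp
theorem hD_D4 : chevD4 ∈ [chevG2, chevB2, chevD4, chevF4, chevE6, chevE7, chevE8] := by simp
theorem hD_F4 : chevF4 ∈ [chevG2, chevB2, chevD4, chevF4, chevE6, chevE7, chevE8] := by simp
theorem hD_E6 : chevE6 ∈ [chevG2, chevB2, chevD4, chevF4, chevE6, chevE7, chevE8] := by simp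
theorem hD_E7 : chevE7 ∈ [chevG2, chevB2, chevD4, chevF4, chevE6, chevE7, chevE8] := by simp
theorem hD_E8 : chevE8 ∈ [chevG2, chevB2, chevD4, chevF4, chevE6, chevE7, chevE8] := by simp

theorem wc_G2 (h2 : Fintype.card F ≠ 2) (h3 : Fintype.card F ≠ 3)
    (X : Subgroup (GL chevG2.Idx F)) (hXU : X ≤ chevG2.posUnipotent F)
    (hwc : ∀ g ∈ chevG2.group F, X.map (MulAut.conj g).toMonoidHom ≤ chevG2.posUnipotent F →
      X.map (MulAut.conj g).toMonoidHom = X) :
    ∃ J : Set ℕ, (∀ j ∈ J, j < chevG2.rank) ∧ X = chevG2.unipotentRadical F J := by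
  have C := ctx_of_chk chevG2 hD_G2 h8lvlM_G2 1 h8lvlChk_G2 lvChk_G2
  have hB := h8base_all.{u} chevG2 hD_G2
  have hC := h8commAll.{u} chevG2 hD_G2
  refine wc_of_tables chevG2 hD_G2 h8lvlM_G2 1 h8lvlChk_G2 lvChk_G2 descChk_G2 kiiChk_G2 false
    isoTab_G2 isoChk_G2 (card_gt_two h2) (fun h => by cases h) ?_ X hXU hwc
  intro k hk hns
  obtain ⟨l, mu, hl0, hl1, hm0, hm1, hlm⟩ := exists_two_ne01 F (card_gt_three h2 h3)
  by_cases h9 : k = 9
  · subst h9
    exact cert2 C hB hC 8 9 6 7 1 1 [(10, -1, 1, 3), (11, -2, 2, 3)] (by decide) (by decide)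
      (by decide) (by decide +kernel) (by decide +kernel) (by simp) l hl0 hl1
  by_cases h10 : k = 10
  · subst h10
    exact cert3 C hB hC 8 9 10 6 7 1 1 (-1) [(11, -2, 2, 3)] (by decide) (by decide)
      (by decide) (by decide +kernel) (by decide +kernel) (by simp) (by decide)
      (by decide +kernel) l mu hl0 hl1 hm0 hm1 hlm
  · exact certChk_spec C hB hC certTab_G2 [9, 10] certChk_G2 k hk hns (by simp [h9, h10])

theorem wc_B2 (h2 : Fintype.card F ≠ 2) (h3 : Fintype.card F ≠ 3)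
    (X : Subgroup (GL chevB2.Idx F)) (hXU : X ≤ chevB2.posUnipotent F)
    (hwc : ∀ g ∈ chevB2.group F, X.map (MulAut.conj g).toMonoidHom ≤ chevB2.posUnipotent F →
      X.map (MulAut.conj g).toMonoidHom = X) :
    ∃ J : Set ℕ, (∀ j ∈ J, j < chevB2.rank) ∧ X = chevB2.unipotentRadical F J := by
  have C := ctx_of_chk chevB2 hD_B2 h8lvlM_B2 2 h8lvlChk_B2 lvChk_B2
  have hB := h8base_all.{u} chevB2 hD_B2
  have hC := h8commAll.{u} chevB2 hD_B2
  refine wc_of_tables chevB2 hD_B2 h8lvlM_B2 2 h8lvlChk_B2 lvChk_B2 descChk_B2 kiiChk_B2 true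
    isoTab_B2 isoChk_B2 (card_gt_two h2) (fun _ => card_gt_three h2 h3) ?_ X hXU hwc
  intro k hk hns
  obtain ⟨l, hl0, hl1⟩ := exists_ne01 F (card_gt_two h2)
  by_cases h7 : k = 7
  · subst h7
    exact cert2 C hB hC 6 7 4 5 1 (-1) [] (by decide) (by decide)
      (by decide) (by decide +kernel) (by decide +kernel) (by simp) l hl0 hl1
  · exact certChk_spec C hB hC certTab_B2 [7] certChk_B2 k hk hns (by simp [h7])

theorem wc_D4 (h2 : Fintype.card F ≠ 2) (h3 : Fintype.card F ≠ 3)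
    (X : Subgroup (GL chevD4.Idx F)) (hXU : X ≤ chevD4.posUnipotent F)
    (hwc : ∀ g ∈ chevD4.group F, X.map (MulAut.conj g).toMonoidHom ≤ chevD4.posUnipotent F →
      X.map (MulAut.conj g).toMonoidHom = X) :
    ∃ J : Set ℕ, (∀ j ∈ J, j < chevD4.rank) ∧ X = chevD4.unipotentRadical F J := by
  have C := ctx_of_chk chevD4 hD_D4 h8lvlM_D4 2 h8lvlChk_D4 lvChk_D4
  have hB := h8base_all.{u} chevD4 hD_D4
  have hC := h8commAll.{u} chevD4 hD_D4
  refine wc_of_tables chevD4 hD_D4 h8lvlM_D4 2 h8lvlChk_D4 lvChk_D4 descChk_D4 kiiChk_D4 true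
    isoTab_D4 isoChk_D4 (card_gt_two h2) (fun _ => card_gt_three h2 h3) ?_ X hXU hwc
  intro k hk hns
  exact certChk_spec C hB hC certTab_D4 [] certChk_D4 k hk hns (by simp)

theorem wc_F4 (h2 : Fintype.card F ≠ 2)
    (X : Subgroup (GL chevF4.Idx F)) (hXU : X ≤ chevF4.posUnipotent F)
    (hwc : ∀ g ∈ chevF4.group F, X.map (MulAut.conj g).toMonoidHom ≤ chevF4.posUnipotent F →
      X.map (MulAut.conj g).toMonoidHom = X) :
    ∃ J : Set ℕ, (∀ j ∈ J, j < chevF4.rank) ∧ X = chevF4.unipotentRadical F J := by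
  have C := ctx_of_chk chevF4 hD_F4 h8lvlM_F4 1 h8lvlChk_F4 lvChk_F4
  have hB := h8base_all.{u} chevF4 hD_F4
  have hC := h8commAll.{u} chevF4 hD_F4
  refine wc_of_tables chevF4 hD_F4 h8lvlM_F4 1 h8lvlChk_F4 lvChk_F4 descChk_F4 kiiChk_F4 false
    isoTab_F4 isoChk_F4 (card_gt_two h2) (fun h => by cases h) ?_ X hXU hwc
  intro k hk hns
  obtain ⟨l, hl0, hl1⟩ := exists_ne01 F (card_gt_two h2)
  by_cases h30 : k = 30
  · subst h30
    exact cert2 C hB hC 28 30 25 27 1 (-1) [] (by decide) (by decide)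
      (by decide) (by decide +kernel) (by decide +kernel) (by simp) l hl0 hl1
  by_cases h41 : k = 41
  · subst h41
    exact cert2 C hB hC 35 41 25 34 1 1 [] (by decide) (by decide)
      (by decide) (by decide +kernel) (by decide +kernel) (by simp) l hl0 hl1
  · exact certChk_spec C hB hC certTab_F4 [30, 41] certChk_F4 k hk hns (by simp [h30, h41])

theorem wc_E6 (h2 : Fintype.card F ≠ 2)
    (X : Subgroup (GL chevE6.Idx F)) (hXU : X ≤ chevE6.posUnipotent F)
    (hwc : ∀ g ∈ chevE6.group F, X.map (MulAut.conj g).toMonoidHom ≤ chevE6.posUnipotent F →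
      X.map (MulAut.conj g).toMonoidHom = X) :
    ∃ J : Set ℕ, (∀ j ∈ J, j < chevE6.rank) ∧ X = chevE6.unipotentRadical F J := by
  have C := ctx_of_chk chevE6 hD_E6 h8lvlM_E6 3 h8lvlChk_E6 lvChk_E6
  have hB := h8base_all.{u} chevE6 hD_E6
  have hC := h8commAll.{u} chevE6 hD_E6
  refine wc_of_tables chevE6 hD_E6 h8lvlM_E6 3 h8lvlChk_E6 lvChk_E6 descChk_E6 kiiChk_E6 false
    isoTab_E6 isoChk_E6 (card_gt_two h2) (fun h => by cases h) ?_ X hXU hwc
  intro k hk hns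
  exact certChk_spec C hB hC certTab_E6 [] certChk_E6 k hk hns (by simp)

theorem wc_E7 (h2 : Fintype.card F ≠ 2)
    (X : Subgroup (GL chevE7.Idx F)) (hXU : X ≤ chevE7.posUnipotent F)
    (hwc : ∀ g ∈ chevE7.group F, X.map (MulAut.conj g).toMonoidHom ≤ chevE7.posUnipotent F →
      X.map (MulAut.conj g).toMonoidHom = X) :
    ∃ J : Set ℕ, (∀ j ∈ J, j < chevE7.rank) ∧ X = chevE7.unipotentRadical F J := by
  have C := ctx_of_chk chevE7 hD_E7 h8lvlM_E7 2 h8lvlChk_E7 lvChk_E7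
  have hB := h8base_all.{u} chevE7 hD_E7
  have hC := h8commAll.{u} chevE7 hD_E7
  refine wc_of_tables chevE7 hD_E7 h8lvlM_E7 2 h8lvlChk_E7 lvChk_E7 descChk_E7 kiiChk_E7 false
    isoTab_E7 isoChk_E7 (card_gt_two h2) (fun h => by cases h) ?_ X hXU hwc
  intro k hk hns
  exact certChk_spec C hB hC certTab_E7 [] certChk_E7 k hk hns (by simp)

theorem wc_E8 (h2 : Fintype.card F ≠ 2)
    (X : Subgroup (GL chevE8.Idx F)) (hXU : X ≤ chevE8.posUnipotent F)
    (hwc : ∀ g ∈ chevE8.group F, X.map (MulAut.conj g).toMonoidHom ≤ chevE8.posUnipotent F →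
      X.map (MulAut.conj g).toMonoidHom = X) :
    ∃ J : Set ℕ, (∀ j ∈ J, j < chevE8.rank) ∧ X = chevE8.unipotentRadical F J := by
  have C := ctx_of_chk chevE8 hD_E8 h8lvlM_E8 1 h8lvlChk_E8 lvChk_E8
  have hB := h8base_all.{u} chevE8 hD_E8
  have hC := h8commAll.{u} chevE8 hD_E8
  refine wc_of_tables chevE8 hD_E8 h8lvlM_E8 1 h8lvlChk_E8 lvChk_E8 descChk_E8 kiiChk_E8 false
    isoTab_E8 isoChk_E8 (card_gt_two h2) (fun h => by cases h) ?_ X hXU hwc
  intro k hk hns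
  exact certChk_spec C hB hC certTab_E8 [] certChk_E8 k hk hns (by simp)

end Cfsg.Agent.Lib.helper7.Wc
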